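import Cfsg.Agent.GolayConfig.Orbit
import Cfsg.Agent.GolayConfig.Data

/-!
Configuration stabilisers in `Cfsg.M24`, completeness of certificate domains, and transitivity on
standard configurations.
-/

set_option autoImplicit false

namespace CfsgLib.GolayConfig

open Cfsg CfsgLib.Mathieu
open scoped Pointwise

/-- The members of `H` fixing the coded configuration. -/
def cut {X : Type} [MulAction (Equiv.Perm GolayPt) X] (H : Subgroup (Equiv.Perm GolayPt))
    (C : Coding X) (x : C.E) : Subgroup (Equiv.Perm GolayPt) :=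
  H ⊓ MulAction.stabilizer (Equiv.Perm GolayPt) (C.dec x)

theorem mem_cut {X : Type} [MulAction (Equiv.Perm GolayPt) X] {H : Subgroup (Equiv.Perm GolayPt)}
    {C : Coding X} {x : C.E} {σ : Equiv.Perm GolayPt} :
    σ ∈ cut H C x ↔ σ ∈ H ∧ σ • C.dec x = C.dec x := Iff.rfl

/-- All code words as masks. -/
def codeWords : List ℕ := (List.range 4096).map codeMask

theorem mem_codeWords {M : ℕ} : M ∈ codeWords ↔ isCode M = true := by
  simp only [codeWords, List.mem_map, List.mem_range]
  constructor
  · rintro ⟨m, -, rfl⟩; exact isCode_codeMask m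
  · intro h; obtain ⟨m, hm, rfl⟩ := exists_codeMask h; exact ⟨m, hm, rfl⟩

theorem map_range_nodup {f : ℕ → ℕ} {n : ℕ} (hf : ∀ a < n, ∀ b < n, f a = f b → a = b) :
    ((List.range n).map f).Nodup :=
  (List.nodup_range (n := n)).map_on fun a ha b hb h =>
    hf a (List.mem_range.1 ha) b (List.mem_range.1 hb) h

theorem codeWords_nodup_upto (n : ℕ) (hn : n ≤ 4096) : ((List.range n).map codeMask).Nodup :=
  map_range_nodup fun _ ha _ hb h =>
    codeMask_injOn (lt_of_lt_of_le ha hn) (lt_of_lt_of_le hb hn) h

theorem codeWords_nodup : codeWords.Nodup := codeWords_nodup_upto 4096 (Nat.le_refl _)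

/-- The code words passing a test, in the order of their information bits. -/
def codeSel (pred : ℕ → Bool) : List ℕ := codeWords.filter pred

theorem mem_codeSel {pred : ℕ → Bool} {s : Finset GolayPt}
    (hs : s ∈ supports (golayCode : Set (GolayPt → ZMod 2))) (hp : pred (maskOf s) = true) :
    maskOf s ∈ codeSel pred :=
  List.mem_filter.2 ⟨mem_codeWords.2 ((mem_supports_iff s).1 hs), hp⟩

/-- Size of a family of supports cut out by a test on masks. -/
theorem ncard_codeSet {P : Finset GolayPt → Prop} {pred : ℕ → Bool} {n : ℕ}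
    (hP : ∀ M, pred M = true ↔ P (setOf24 M)) (hn : (codeSel pred).length = n) :
    {s | s ∈ supports (golayCode : Set (GolayPt → ZMod 2)) ∧ P s}.ncard = n := by
  have e : {s | s ∈ supports (golayCode : Set (GolayPt → ZMod 2)) ∧ P s} =
      ↑((codeSel pred).map setOf24).toFinset := by
    ext s
    simp only [Set.mem_ofPred_eq, List.coe_toFinset, List.mem_map]
    constructor
    · rintro ⟨hs, hp⟩
      exact ⟨maskOf s, mem_codeSel hs ((hP _).2 (by rwa [setOf24_maskOf])), setOf24_maskOf s⟩
    · rintro ⟨M, hM, rfl⟩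
      obtain ⟨h1, h2⟩ := List.mem_filter.1 hM
      exact ⟨setOf24_mem_supports (mem_codeWords.1 h1), (hP M).1 h2⟩
  rw [e, Set.ncard_coe_finset, List.toFinset_card_of_nodup, List.length_map, hn]
  unfold codeSel
  refine List.Nodup.map_on (fun a ha b hb h => ?_) (List.Nodup.filter pred codeWords_nodup)
  exact setOf24_inj (isCode_lt (mem_codeWords.1 (List.mem_filter.1 ha).1))
    (isCode_lt (mem_codeWords.1 (List.mem_filter.1 hb).1)) h

/-- The information bits of the code words reached; each step names a reached word and a table. -/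
def reachCode (gens : List ℕ) : List (ℕ × ℕ) → ℕ → ℕ
  | [], bits => bits
  | (m, k) :: rest, bits =>
    match gens[k]? with
    | some t =>
      if bits.testBit m && isCode (push t 24 (codeMask m)) then
        reachCode gens rest (bits ||| 2 ^ (push t 24 (codeMask m) % 4096))
      else bits
    | none => bits

theorem codeMask_mod {M : ℕ} (h : isCode M = true) : codeMask (M % 4096) = M := by
  have : (2 : ℕ) ^ codeRows.length = 4096 := rfl
  rw [codeMask, ← this, xorSel_mod, ← codeMask, isCode_iff.1 h]

theorem moves_of_reachCode {H : Subgroup (Equiv.Perm GolayPt)} {gens : List ℕ}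
    (hg : ∀ t ∈ gens, InGroup enc H t) (x₀ : Finset GolayPt) :
    ∀ (steps : List (ℕ × ℕ)) (bits : ℕ),
      (∀ m, bits.testBit m = true → Moves H x₀ (setOf24 (codeMask m))) →
      ∀ m, (reachCode gens steps bits).testBit m = true → Moves H x₀ (setOf24 (codeMask m))
  | [], _, h => h
  | (i, k) :: rest, bits, h => by
    simp only [reachCode]
    split
    · rename_i t ht
      split
      · rename_i hc
        rw [Bool.and_eq_true] at hc
        obtain ⟨σ, hσ, rσ⟩ := hg t (List.mem_of_getElem? ht)
        refine moves_of_reachCode hg x₀ rest _ fun m hm => ?_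
        rw [Nat.testBit_or, Bool.or_eq_true] at hm
        rcases hm with hm | hm
        · exact h m hm
        · rw [Nat.testBit_two_pow, decide_eq_true_eq] at hm
          rw [← hm, codeMask_mod hc.2]
          exact (h i hc.1).trans ⟨σ, hσ, image_setOf24 rσ _⟩
      · exact h
    · exact h

/-- Transitivity on a family of supports cut out by a test on masks. -/
theorem moves_codeSet {H : Subgroup (Equiv.Perm GolayPt)} {gens : List ℕ}
    (hg : ∀ t ∈ gens, InGroup enc H t) (x : ℕ) (steps : List (ℕ × ℕ)) (pred : ℕ → Bool)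
    (hx : isCode x = true)
    (h : (List.range 4096).all (fun m =>
      !pred (codeMask m) || (reachCode gens steps (2 ^ (x % 4096))).testBit m) = true)
    {s : Finset GolayPt} (hs : s ∈ supports (golayCode : Set (GolayPt → ZMod 2)))
    (hp : pred (maskOf s) = true) : Moves H (setOf24 x) s := by
  obtain ⟨m, hm, e⟩ := exists_codeMask ((mem_supports_iff s).1 hs)
  have hb := List.all_eq_true.1 h m (List.mem_range.2 hm)
  rw [← e, hp] at hb
  rw [← setOf24_maskOf s, e]
  refine moves_of_reachCode hg _ steps _ (fun i hi => ?_) m (by simpa using hb)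
  rw [Nat.testBit_two_pow, decide_eq_true_eq] at hi
  rw [← hi, codeMask_mod hx]
  exact Moves.refl H _

/-- Transitivity on the points passing a test. -/
theorem moves_pointSet {H : Subgroup (Equiv.Perm GolayPt)} {gens : List ℕ}
    (hg : ∀ t ∈ gens, InGroup enc H t) (x : ℕ) (steps : List (ℕ × ℕ)) (pred : ℕ → Bool)
    (h : ((List.range 24).filter pred).all (ptCoding.mem (ptCoding.reach gens steps [x])) = true)
    {p : GolayPt} (hp : pred (idx p) = true) : Moves H (pt x) p := by
  have := ptCoding.moves_of_cert hg x steps _ h (idx p)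
    (List.mem_filter.2 ⟨List.mem_range.2 (idx_lt p), hp⟩)
  rwa [show ptCoding.dec (idx p) = p from pt_idx p] at this

/-- The masks of the two-element sets. -/
def pairMasks : List ℕ :=
  (List.range 24).flatMap fun j => (List.range j).map fun i => 2 ^ i + 2 ^ j

theorem maskOf_mem_pairMasks {s : Finset GolayPt} (hs : s.card = 2) : maskOf s ∈ pairMasks := by
  obtain ⟨a, b, hab, rfl⟩ := Finset.card_eq_two.1 hs
  have hne : idx a ≠ idx b := fun h => hab (idx_injective h)
  simp only [maskOf, Finset.sum_pair hab, pairMasks, List.mem_flatMap, List.mem_map, List.mem_range]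
  rcases lt_or_gt_of_ne hne with h | h
  · exact ⟨idx b, idx_lt b, idx a, h, rfl⟩
  · exact ⟨idx a, idx_lt a, idx b, h, add_comm _ _⟩

/-- Transitivity on the two-element sets passing a test. -/
theorem moves_pairSet {H : Subgroup (Equiv.Perm GolayPt)} {gens : List ℕ}
    (hg : ∀ t ∈ gens, InGroup enc H t) (x : ℕ) (steps : List (ℕ × ℕ)) (pred : ℕ → Bool)
    (h : (pairMasks.filter pred).all (setCoding.mem (setCoding.reach gens steps [x])) = true)
    {s : Finset GolayPt} (hs : s.card = 2) (hp : pred (maskOf s) = true) :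
    Moves H (setOf24 x) s := by
  have := setCoding.moves_of_cert hg x steps _ h (maskOf s)
    (List.mem_filter.2 ⟨maskOf_mem_pairMasks hs, hp⟩)
  rwa [show setCoding.dec (maskOf s) = s from setOf24_maskOf s] at this

/-! ### Standard subgroups -/

/-- The stabiliser of the extra point. -/
def H23 : Subgroup (Equiv.Perm GolayPt) := cut M24 ptCoding (23 : ℕ)
/-- The stabiliser of the extra point and of 0. -/
def H22 : Subgroup (Equiv.Perm GolayPt) := cut H23 ptCoding (0 : ℕ)
/-- The stabiliser of the standard dodecad. -/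
def H12 : Subgroup (Equiv.Perm GolayPt) := cut M24 setCoding cD
/-- The stabiliser of the standard dodecad and of its point 0. -/
def H11 : Subgroup (Equiv.Perm GolayPt) := cut H12 ptCoding (0 : ℕ)

theorem inGroup_of_checks {H : Subgroup (Equiv.Perm GolayPt)} {X : Type}
    [MulAction (Equiv.Perm GolayPt) X] {C : Coding X} {x : C.E} {gens : List ℕ}
    (hg : ∀ t ∈ gens, InGroup enc H t)
    (h : gens.all (fun t => C.same (C.act t x) x) = true) :
    ∀ t ∈ gens, InGroup enc (cut H C x) t :=
  fun t ht => inGroup_inf C x (hg t ht) (List.all_eq_true.1 h t ht)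

theorem inGroup_of_isM24 {gens : List ℕ} (h : gens.all isM24 = true) :
    ∀ t ∈ gens, InGroup enc M24 t := fun t ht => inGroup_M24 (List.all_eq_true.1 h t ht)

theorem gens24 : ∀ t ∈ gM24, InGroup enc M24 t := inGroup_of_isM24 (by decide +kernel)

theorem gens23 : ∀ t ∈ gM23, InGroup enc H23 t :=
  inGroup_of_checks (inGroup_of_isM24 (by decide +kernel)) (by decide +kernel)

theorem gens22 : ∀ t ∈ gM22, InGroup enc H22 t :=
  inGroup_of_checks (inGroup_of_checks (inGroup_of_isM24 (by decide +kernel)) (by decide +kernel))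
    (by decide +kernel)

theorem gens12 : ∀ t ∈ gM12, InGroup enc H12 t :=
  inGroup_of_checks (inGroup_of_isM24 (by decide +kernel)) (by decide +kernel)

theorem gens11 : ∀ t ∈ gM11, InGroup enc H11 t :=
  inGroup_of_checks (inGroup_of_checks (inGroup_of_isM24 (by decide +kernel)) (by decide +kernel))
    (by decide +kernel)

theorem smul_mem_supports {σ : Equiv.Perm GolayPt} (hσ : σ ∈ M24) {s : Finset GolayPt}
    (hs : s ∈ supports (golayCode : Set (GolayPt → ZMod 2))) :
    σ • s ∈ supports (golayCode : Set (GolayPt → ZMod 2)) :=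
  setSystemAut_image_mem hσ hs

theorem smul_mem_wordsOfWeight_iff {σ : Equiv.Perm GolayPt} (hσ : σ ∈ M24) (n : ℕ)
    (s : Finset GolayPt) :
    σ • s ∈ wordsOfWeight (golayCode : Set (GolayPt → ZMod 2)) n ↔
      s ∈ wordsOfWeight (golayCode : Set (GolayPt → ZMod 2)) n := by
  constructor
  · rintro ⟨h1, h2⟩
    refine ⟨?_, by rw [← h2, Finset.card_smul_finset]⟩
    simpa using smul_mem_supports (inv_mem hσ) h1
  · rintro ⟨h1, h2⟩
    exact ⟨smul_mem_supports hσ h1, by rw [Finset.card_smul_finset, h2]⟩

/-- A point is carried to the extra point's position. -/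
theorem moves_point (x : GolayPt) : Moves M24 (pt 23) x :=
  moves_pointSet gens24 23 trPoint (fun _ => true) (by decide +kernel) rfl

theorem exists_point_pair {p q : GolayPt} (h : p ≠ q) :
    ∃ σ ∈ M24, σ (pt 23) = p ∧ σ (pt 0) = q := by
  obtain ⟨σ, hσ, hp⟩ := moves_point p
  have hq : σ⁻¹ q ≠ pt 23 := fun e => h (by
    rw [← hp, ← e]; exact perm_apply_inv σ q)
  obtain ⟨τ, hτ, hq'⟩ := moves_pointSet gens23 0 trPoint2 (fun i => !(i == 23)) (by decide +kernel)
    (p := σ⁻¹ q) (by
      simp only [Bool.not_eq_true', beq_eq_false_iff_ne]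
      intro e; exact hq (by rw [← pt_idx (σ⁻¹ q), e]))
  have h0 : τ (pt 0) = σ⁻¹ q := hq'
  refine ⟨σ * τ, mul_mem hσ hτ.1, ?_, ?_⟩
  · show σ (τ (pt 23)) = p
    rw [show τ (pt 23) = pt 23 from hτ.2]; exact hp
  · show σ (τ (pt 0)) = q
    rw [h0, perm_apply_inv]

end CfsgLib.GolayConfig
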