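import Cfsg.Agent.GolayConfig.Std

/-!
Standard configurations of points and octads, and their stabilisers' generators.
-/

set_option autoImplicit false

namespace CfsgLib.GolayConfig

open Cfsg CfsgLib.Mathieu
open scoped Pointwise

theorem mem_octads_supports {o : Finset GolayPt} (h : o ∈ octads) :
    o ∈ supports (golayCode : Set (GolayPt → ZMod 2)) := h.1

/-- Test for an octad. -/
def isOct (M : ℕ) : Bool := wt M == 8

theorem isOct_maskOf {o : Finset GolayPt} (h : o ∈ octads) : isOct (maskOf o) = true := by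
  rw [isOct, beq_iff_eq, wt_maskOf]; exact h.2

/-- `octads` as supports with a condition. -/
theorem setOf_octads_eq (P : Finset GolayPt → Prop) :
    {s | s ∈ octads ∧ P s} =
      {s | s ∈ supports (golayCode : Set (GolayPt → ZMod 2)) ∧ s.card = 8 ∧ P s} := by
  ext s; exact ⟨fun h => ⟨h.1.1, h.1.2, h.2⟩, fun h => ⟨⟨h.1, h.2.1⟩, h.2.2⟩⟩

theorem isOct_iff (M : ℕ) : isOct M = true ↔ (setOf24 M).card = 8 := by
  rw [isOct, beq_iff_eq, card_setOf24]

theorem hO23 : ∀ t ∈ gO23, InGroup enc (cut H23 setCoding cOctX) t :=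
  inGroup_of_checks (inGroup_of_checks (inGroup_of_isM24 (by decide +kernel)) (by decide +kernel))
    (by decide +kernel)

theorem hN23 : ∀ t ∈ gN23, InGroup enc (cut H23 setCoding cOctN) t :=
  inGroup_of_checks (inGroup_of_checks (inGroup_of_isM24 (by decide +kernel)) (by decide +kernel))
    (by decide +kernel)

theorem hO22 : ∀ t ∈ gO22, InGroup enc (cut H22 setCoding cOctPQ) t :=
  inGroup_of_checks (inGroup_of_checks (inGroup_of_checks (inGroup_of_isM24 (by decide +kernel))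
    (by decide +kernel)) (by decide +kernel)) (by decide +kernel)

theorem hN22 : ∀ t ∈ gN22, InGroup enc (cut H22 setCoding cOctPnQ) t :=
  inGroup_of_checks (inGroup_of_checks (inGroup_of_checks (inGroup_of_isM24 (by decide +kernel))
    (by decide +kernel)) (by decide +kernel)) (by decide +kernel)

/-- An octad through a given point. -/
theorem exists_point_octad {x : GolayPt} {o : Finset GolayPt} (ho : o ∈ octads) (hx : x ∈ o) :
    ∃ σ ∈ M24, σ (pt 23) = x ∧ σ • setOf24 cOctX = o := by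
  obtain ⟨σ, hσ, rfl⟩ := moves_point x
  have ho' : σ⁻¹ • o ∈ octads := (smul_mem_wordsOfWeight_iff (inv_mem hσ) 8 o).2 ho
  have hm : pt 23 ∈ σ⁻¹ • o := by rw [← smul_mem_iff σ, smul_inv_smul]; exact hx
  obtain ⟨τ, hτ, hto⟩ := moves_codeSet gens23 cOctX trOctX (fun M => isOct M && hasPt 23 M)
    (by decide +kernel) (by decide +kernel) ho'.1
    (by rw [Bool.and_eq_true]; exact ⟨isOct_maskOf ho', (hasPt_maskOf (by norm_num) _).2 hm⟩)
  exact ⟨σ * τ, mul_mem hσ hτ.1, congrArg σ hτ.2, by rw [mul_smul, hto, smul_inv_smul]⟩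

/-- An octad avoiding a given point. -/
theorem exists_point_not_octad {x : GolayPt} {o : Finset GolayPt} (ho : o ∈ octads) (hx : x ∉ o) :
    ∃ σ ∈ M24, σ (pt 23) = x ∧ σ • setOf24 cOctN = o := by
  obtain ⟨σ, hσ, rfl⟩ := moves_point x
  have ho' : σ⁻¹ • o ∈ octads := (smul_mem_wordsOfWeight_iff (inv_mem hσ) 8 o).2 ho
  have hm : pt 23 ∉ σ⁻¹ • o := by rw [← smul_mem_iff σ, smul_inv_smul]; exact hx
  obtain ⟨τ, hτ, hto⟩ := moves_codeSet gens23 cOctN trOctN (fun M => isOct M && !hasPt 23 M)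
    (by decide +kernel) (by decide +kernel) ho'.1
    (by rw [Bool.and_eq_true, Bool.not_eq_true']
        exact ⟨isOct_maskOf ho', Bool.eq_false_iff.2 fun h => hm ((hasPt_maskOf (by norm_num) _).1 h)⟩)
  exact ⟨σ * τ, mul_mem hσ hτ.1, congrArg σ hτ.2, by rw [mul_smul, hto, smul_inv_smul]⟩

/-- An octad through two given points. -/
theorem exists_pair_octad {p q : GolayPt} (hpq : p ≠ q) {o : Finset GolayPt} (ho : o ∈ octads)
    (hp : p ∈ o) (hq : q ∈ o) :
    ∃ σ ∈ M24, σ (pt 23) = p ∧ σ (pt 0) = q ∧ σ • setOf24 cOctPQ = o := by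
  obtain ⟨σ, hσ, rfl, rfl⟩ := exists_point_pair hpq
  have ho' : σ⁻¹ • o ∈ octads := (smul_mem_wordsOfWeight_iff (inv_mem hσ) 8 o).2 ho
  have hm : pt 23 ∈ σ⁻¹ • o := by rw [← smul_mem_iff σ, smul_inv_smul]; exact hp
  have hm' : pt 0 ∈ σ⁻¹ • o := by rw [← smul_mem_iff σ, smul_inv_smul]; exact hq
  obtain ⟨τ, hτ, hto⟩ := moves_codeSet gens22 cOctPQ trPQ
    (fun M => isOct M && (hasPt 23 M && hasPt 0 M))
    (by decide +kernel) (by decide +kernel) ho'.1
    (by simp only [Bool.and_eq_true]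
        exact ⟨isOct_maskOf ho', (hasPt_maskOf (by norm_num) _).2 hm,
          (hasPt_maskOf (by norm_num) _).2 hm'⟩)
  exact ⟨σ * τ, mul_mem hσ hτ.1.1, congrArg σ hτ.1.2, congrArg σ hτ.2,
    by rw [mul_smul, hto, smul_inv_smul]⟩

/-- An octad through the first, avoiding the second of two given points. -/
theorem exists_pair_not_octad {p q : GolayPt} (hpq : p ≠ q) {o : Finset GolayPt} (ho : o ∈ octads)
    (hp : p ∈ o) (hq : q ∉ o) :
    ∃ σ ∈ M24, σ (pt 23) = p ∧ σ (pt 0) = q ∧ σ • setOf24 cOctPnQ = o := by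
  obtain ⟨σ, hσ, rfl, rfl⟩ := exists_point_pair hpq
  have ho' : σ⁻¹ • o ∈ octads := (smul_mem_wordsOfWeight_iff (inv_mem hσ) 8 o).2 ho
  have hm : pt 23 ∈ σ⁻¹ • o := by rw [← smul_mem_iff σ, smul_inv_smul]; exact hp
  have hm' : pt 0 ∉ σ⁻¹ • o := by rw [← smul_mem_iff σ, smul_inv_smul]; exact hq
  obtain ⟨τ, hτ, hto⟩ := moves_codeSet gens22 cOctPnQ trPnQ
    (fun M => isOct M && (hasPt 23 M && !hasPt 0 M))
    (by decide +kernel) (by decide +kernel) ho'.1
    (by simp only [Bool.and_eq_true, Bool.not_eq_true']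
        exact ⟨isOct_maskOf ho', (hasPt_maskOf (by norm_num) _).2 hm,
          Bool.eq_false_iff.2 fun h => hm' ((hasPt_maskOf (by norm_num) _).1 h)⟩)
  exact ⟨σ * τ, mul_mem hσ hτ.1.1, congrArg σ hτ.1.2, congrArg σ hτ.2,
    by rw [mul_smul, hto, smul_inv_smul]⟩

end CfsgLib.GolayConfig
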