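import Mathlib

/-!
Certificate of the centraliser of an involution of the eleven-point Mathieu group.
-/

set_option autoImplicit false
set_option maxRecDepth 20000

namespace CfsgLib.GolayConfig

/-- Table of an involution. -/
def tInv : ℕ := 467987725875536020348245916269393586810777779518124393216

def gensCI : List (ℕ × (ZMod 3 × ZMod 3 × ZMod 3 × ZMod 3)) := [(369723170672063756811484782112597723781913830713266541056, (0, 1, 1, 1)), (515974736300315063129422190164043640401789743030460023296, (0, 2, 2, 1))]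

def stepsCI : List (ℕ × ℕ) := [(0, 0), (1, 1), (1, 0), (2, 1), (2, 0), (3, 1), (3, 0), (4, 1), (4, 0), (5, 1), (5, 0), (5, 0),
    (6, 1), (6, 0), (7, 1), (7, 0), (8, 1), (8, 0), (8, 0), (9, 1), (9, 0), (10, 1), (10, 0), (10, 0),
    (10, 0), (11, 1), (11, 0), (11, 0), (11, 0), (11, 0), (12, 1), (12, 0), (12, 0), (12, 1), (12, 1),
    (12, 1), (11, 1), (11, 0), (11, 0), (11, 0), (10, 1), (10, 1), (10, 1), (8, 0), (7, 0), (5, 1),
    (4, 0)]

def nextCI0 : List ℕ := [27, 43, 4, 34, 1, 0, 45, 12, 13, 11, 2, 6, 3, 5, 32, 30, 47, 10, 41, 7, 8, 9, 25, 39, 37, 16, 21,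
    14, 15, 17, 18, 19, 20, 22, 23, 24, 26, 28, 29, 31, 33, 35, 36, 38, 40, 42, 44, 46]

def nextCI1 : List ℕ := [42, 26, 3, 0, 40, 15, 14, 1, 46, 2, 18, 44, 24, 23, 7, 4, 5, 6, 8, 47, 9, 28, 10, 17, 11, 12, 13,
    22, 19, 16, 36, 20, 35, 21, 33, 29, 25, 27, 31, 30, 32, 34, 38, 37, 39, 41, 43, 45]

def modCI : ℕ := 469

end CfsgLib.GolayConfig
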