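import Cfsg.Prelude.Def_SporadicCombinatorics

/-!
The hexacode over a field of order four, transported to `Fin 4` with elements `0, 1, ω, ω²`.
-/

set_option autoImplicit false

namespace CfsgLib.GolayConfig

open Cfsg

/-- Addition of `0, 1, ω, ω²` numbered `0, 1, 2, 3`. -/
def add4 (a b : Fin 4) : Fin 4 :=
  ![![0, 1, 2, 3], ![1, 0, 3, 2], ![2, 3, 0, 1], ![3, 2, 1, 0]] a b

/-- Multiplication of `0, 1, ω, ω²`. -/
def mul4 (a b : Fin 4) : Fin 4 :=
  ![![0, 0, 0, 0], ![0, 1, 2, 3], ![0, 2, 3, 1], ![0, 3, 1, 2]] a b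

/-- The three spanning words. -/
def hexRow : Fin 3 → Fin 6 → Fin 4 :=
  ![![2, 3, 3, 2, 3, 2], ![3, 2, 2, 3, 3, 2], ![3, 2, 3, 2, 2, 3]]

/-- A combination of the spanning words. -/
def hexComb (a b c : Fin 4) (i : Fin 6) : Fin 4 :=
  add4 (add4 (mul4 a (hexRow 0 i)) (mul4 b (hexRow 1 i))) (mul4 c (hexRow 2 i))

/-- The parity test of the code. -/
def isHex (w : Fin 6 → Fin 4) : Bool :=
  w 3 == add4 (add4 (w 0) (w 1)) (w 2) && w 4 == add4 (add4 (mul4 3 (w 0)) (mul4 2 (w 1))) (w 2) &&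
    w 5 == add4 (add4 (mul4 2 (w 0)) (mul4 3 (w 1))) (w 2)

/-- The combination with given first three coordinates. -/
def hexCoef (x y z : Fin 4) : Fin 4 × Fin 4 × Fin 4 :=
  (add4 (mul4 2 x) (mul4 3 y), add4 (add4 (mul4 3 x) (mul4 3 y)) z, add4 y z)

theorem hexComb_isHex : ∀ a b c, isHex (hexComb a b c) = true := by decide +kernel

theorem hexCoef_spec : ∀ x y z,
    hexComb (hexCoef x y z).1 (hexCoef x y z).2.1 (hexCoef x y z).2.2 0 = x ∧
    hexComb (hexCoef x y z).1 (hexCoef x y z).2.1 (hexCoef x y z).2.2 1 = y ∧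
    hexComb (hexCoef x y z).1 (hexCoef x y z).2.1 (hexCoef x y z).2.2 2 = z := by decide +kernel

theorem exists_hexComb {w : Fin 6 → Fin 4} (h : isHex w = true) :
    ∃ a b c, hexComb a b c = w := by
  obtain ⟨e0, e1, e2⟩ := hexCoef_spec (w 0) (w 1) (w 2)
  have hh := hexComb_isHex (hexCoef (w 0) (w 1) (w 2)).1 (hexCoef (w 0) (w 1) (w 2)).2.1
    (hexCoef (w 0) (w 1) (w 2)).2.2
  refine ⟨(hexCoef (w 0) (w 1) (w 2)).1, (hexCoef (w 0) (w 1) (w 2)).2.1,
    (hexCoef (w 0) (w 1) (w 2)).2.2, ?_⟩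
  simp only [isHex, Bool.and_eq_true, beq_iff_eq] at h hh
  rw [e0, e1, e2] at hh
  funext i
  fin_cases i
  · exact e0
  · exact e1
  · exact e2
  · exact hh.1.1.trans h.1.1.symm
  · exact hh.1.2.trans h.1.2.symm
  · exact hh.2.trans h.2.symm

section

variable {F : Type*} [Field F] (ω : F)

/-- The element with a given number. -/
def toF4 (a : Fin 4) : F := ![0, 1, ω, ω ^ 2] a

variable {ω} [Fintype F] (hF : Fintype.card F = 4) (hω : ω ^ 2 + ω + 1 = 0)
include hF hω

theorem char_two : (2 : F) = 0 := by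
  have h4 : ((Fintype.card F : ℕ) : F) = 0 := Nat.cast_card_eq_zero F
  rw [hF, Nat.cast_ofNat] at h4
  have h22 : (2 : F) * 2 = 0 := by rw [← h4]; norm_num
  exact mul_self_eq_zero.1 h22

theorem toF4_bijective : Function.Bijective (toF4 ω) := by
  have h2 := char_two hF hω
  have w0 : ω ≠ 0 := by rintro rfl; simp at hω
  have w1 : ω ≠ 1 := by
    rintro rfl
    exact one_ne_zero (by linear_combination hω - h2 : (1 : F) = 0)
  have e1 : ω ^ 2 ≠ 1 := fun h => w0 (by linear_combination hω - h - h2)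
  have e2 : ω ^ 2 ≠ ω := fun h => w1 (by
    have : ω * (ω - 1) = 0 := by linear_combination h
    rcases mul_eq_zero.1 this with h' | h'
    · exact absurd h' w0
    · exact sub_eq_zero.1 h')
  have e3 : ω ^ 2 ≠ 0 := pow_ne_zero 2 w0
  refine (Fintype.bijective_iff_injective_and_card _).2 ⟨?_, by simp [hF]⟩
  intro a b h
  fin_cases a <;> fin_cases b <;>
    simp [toF4, w0, w1, e1, e2, w0.symm, w1.symm, e1.symm, e2.symm, e3, e3.symm] at h ⊢

theorem toF4_add (a b : Fin 4) : toF4 ω (add4 a b) = toF4 ω a + toF4 ω b := by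
  have h2 := char_two hF hω
  fin_cases a <;> fin_cases b <;> simp [toF4, add4] <;>
    first
    | linear_combination hω
    | linear_combination -hω
    | linear_combination hω - h2
    | linear_combination h2 - hω
    | linear_combination h2
    | linear_combination -h2
    | linear_combination ω * h2
    | linear_combination -ω * h2
    | linear_combination ω ^ 2 * h2
    | linear_combination -(ω ^ 2) * h2
    | linear_combination hω - ω * h2
    | linear_combination ω * h2 - hω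
    | linear_combination hω - ω ^ 2 * h2
    | linear_combination ω ^ 2 * h2 - hω

theorem toF4_mul (a b : Fin 4) : toF4 ω (mul4 a b) = toF4 ω a * toF4 ω b := by
  have h3 : ω ^ 3 = 1 := by linear_combination (ω - 1) * hω
  fin_cases a <;> fin_cases b <;> simp [toF4, mul4] <;>
    first
    | linear_combination h3
    | linear_combination -h3
    | linear_combination ω * h3
    | linear_combination -ω * h3
    | ring

theorem toF4_eq_zero_iff (a : Fin 4) : toF4 ω a = 0 ↔ a = 0 :=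
  ⟨fun h => (toF4_bijective hF hω).1 (h.trans (by simp [toF4])), fun h => by simp [h, toF4]⟩

theorem mem_hexacode_iff (x : Fin 6 → F) :
    x ∈ hexacode F ω ↔ ∃ w, isHex w = true ∧ x = toF4 ω ∘ w := by
  have hrow : ∀ a b c : Fin 4, toF4 ω ∘ hexComb a b c =
      toF4 ω a • ![ω, ω ^ 2, ω ^ 2, ω, ω ^ 2, ω] + (toF4 ω b • ![ω ^ 2, ω, ω, ω ^ 2, ω ^ 2, ω] +
        toF4 ω c • ![ω ^ 2, ω, ω ^ 2, ω, ω, ω ^ 2]) := by
    intro a b c
    funext i
    simp only [Function.comp_apply, hexComb, toF4_add hF hω, toF4_mul hF hω, Pi.add_apply,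
      Pi.smul_apply, smul_eq_mul]
    fin_cases i <;> simp [hexRow, toF4, add_assoc]
  rw [hexacode, Submodule.mem_span_triple]
  constructor
  · rintro ⟨a, b, c, rfl⟩
    obtain ⟨a, rfl⟩ := (toF4_bijective hF hω).2 a
    obtain ⟨b, rfl⟩ := (toF4_bijective hF hω).2 b
    obtain ⟨c, rfl⟩ := (toF4_bijective hF hω).2 c
    exact ⟨_, hexComb_isHex a b c, (by rw [hrow, add_assoc])⟩
  · rintro ⟨w, hw, rfl⟩
    obtain ⟨a, b, c, rfl⟩ := exists_hexComb hw
    exact ⟨toF4 ω a, toF4 ω b, toF4 ω c, (by rw [hrow, add_assoc])⟩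

end

end CfsgLib.GolayConfig
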