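import Cfsg.Agent.GolayConfig.Config

/-!
Certificates for homomorphisms out of a configuration stabiliser: the graph of the homomorphism is
listed as pairs (table, code of the value), closed under left multiplication by the generators.
-/

set_option autoImplicit false

namespace CfsgLib.GolayConfig

open Cfsg CfsgLib.Mathieu

/-- Coded computations in a monoid `M`. -/
structure Target (M : Type*) [Monoid M] where
  E : Type
  one : E
  mul : E → E → E
  valid : E → Bool
  same : E → E → Bool
  dec : E → M
  valid_one : valid one = true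
  valid_mul : ∀ {a b}, valid a = true → valid b = true → valid (mul a b) = true
  dec_one : dec one = 1
  dec_mul : ∀ {a b}, valid a = true → valid b = true → dec (mul a b) = dec a * dec b
  dec_same : ∀ {a b}, same a b = true → dec a = dec b

/-- Composition of packed tables. -/
def compTab (a b : ℕ) : ℕ :=
  (List.range 24).foldr (fun i acc => acc * 256 + app a (app b i)) 0

/-- The table of the identity. -/
def idTab : ℕ := (List.range 24).foldr (fun i acc => acc * 256 + i) 0

section

variable {M : Type*} [Monoid M]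

/-- A pair is a table in packed form with the code of a value. -/
def Target.pairMul (T : Target M) (g r : ℕ × T.E) : ℕ × T.E := (compTab g.1 r.1, T.mul g.2 r.2)

/-- The graph built from the identity; each step names a pair already built and a generator. -/
def Target.build (T : Target M) (gens : List (ℕ × T.E)) : List (ℕ × ℕ) → List (ℕ × T.E) → List (ℕ × T.E)
  | [], L => L
  | (i, k) :: rest, L =>
    match L[i]?, gens[k]? with
    | some r, some g => T.build gens rest (T.pairMul g r :: L)
    | _, _ => L

/-- Distinct residues of the tables. -/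
def keysDistinct (md : ℕ) : List ℕ → ℕ → Bool
  | [], _ => true
  | t :: rest, bits => !bits.testBit (t % md) && keysDistinct md rest (bits ||| 2 ^ (t % md))

theorem keysDistinct_nodup (md : ℕ) : ∀ (L : List ℕ) (bits : ℕ), keysDistinct md L bits = true →
    L.Nodup ∧ ∀ t ∈ L, bits.testBit (t % md) = false
  | [], _, _ => ⟨List.nodup_nil, by simp⟩
  | t :: rest, bits, h => by
    simp only [keysDistinct, Bool.and_eq_true, Bool.not_eq_true'] at h
    obtain ⟨h1, h2⟩ := keysDistinct_nodup md rest _ h.2
    refine ⟨List.nodup_cons.2 ⟨fun hm => ?_, h1⟩, fun u hu => ?_⟩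
    · have := h2 t hm
      simp [Nat.testBit_or] at this
    · rcases List.mem_cons.1 hu with rfl | hu
      · exact h.1
      · have := h2 u hu
        rw [Nat.testBit_or, Bool.or_eq_false_iff] at this
        exact this.1

/-- All checks on the graph. -/
def Target.checkGraph (T : Target M) (gens : List (ℕ × T.E)) (steps : List (ℕ × ℕ)) (next : List (List ℕ))
    (md : ℕ) : Bool :=
  let R := T.build gens steps [(idTab, T.one)]
  gens.all (fun g => T.valid g.2) && keysDistinct md (R.map Prod.fst) 0 &&
    next.length == gens.length &&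
    (gens.zip next).all fun gn => gn.2.length == R.length &&
      (R.zip gn.2).all fun rj =>
        match R[rj.2]? with
        | some r' => compTab gn.1.1 rj.1.1 == r'.1 && T.same (T.mul gn.1.2 rj.1.2) r'.2
        | none => false

theorem foldr_app_lt : ∀ (f : ℕ → ℕ) (n : ℕ), (∀ i < n, f i < 256) → ∀ acc k, k < n →
    app ((List.range n).foldr (fun i a => a * 256 + f i) acc) k = f k
  | f, 0, _, _, k, hk => absurd hk (by omega)
  | f, n + 1, hf, acc, k, hk => by
    rw [List.range_succ_eq_map, List.foldr_cons, List.foldr_map]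
    simp only [app, Nat.shiftRight_eq_div_pow]
    rcases k with - | k
    · simp only [Nat.mul_zero, pow_zero, Nat.div_one]
      have := hf 0 (by omega)
      omega
    · have ih := foldr_app_lt (fun i => f (i + 1)) n (fun i hi => hf (i + 1) (by omega)) acc k
        (by omega)
      simp only [app, Nat.shiftRight_eq_div_pow] at ih
      rw [show 8 * (k + 1) = 8 + 8 * k by ring, pow_add, ← Nat.div_div_eq_div_mul]
      have h0 := hf 0 (by omega)
      rw [show ∀ A, (A * 256 + f 0) / 2 ^ 8 = A from fun A => by norm_num; omega]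
      exact ih

theorem rep_compTab {σ τ : Equiv.Perm GolayPt} {a b : ℕ} (ha : Rep enc σ a) (hb : Rep enc τ b) :
    Rep enc (σ * τ) (compTab a b) := by
  intro p
  rw [compTab, foldr_app_lt (fun i => app a (app b i)) 24 _ 0 _ (enc p).isLt, hb p, ha (τ p)]
  · rfl
  · intro i hi
    exact Nat.mod_lt _ (by norm_num)

theorem rep_idTab : Rep enc 1 idTab := by
  intro p
  rw [idTab, foldr_app_lt (fun i => i) 24 (fun i hi => by omega) 0 _ (enc p).isLt]
  rfl

theorem rep_unique {σ τ : Equiv.Perm GolayPt} {t : ℕ} (h : Rep enc σ t) (h' : Rep enc τ t) :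
    σ = τ :=
  Equiv.ext fun p => enc.injective (Fin.ext ((h p).symm.trans (h' p)))

theorem rep_apply_eq {σ τ : Equiv.Perm GolayPt} {t t' : ℕ} (h : Rep enc σ t) (h' : Rep enc τ t')
    (e : σ = τ) : ∀ i < 24, app t i = app t' i := by
  intro i hi
  have a := h (enc.symm ⟨i, hi⟩)
  have b := h' (enc.symm ⟨i, hi⟩)
  rw [Equiv.apply_symm_apply] at a b
  exact a.trans ((e ▸ rfl : (enc (σ (enc.symm ⟨i, hi⟩))).val = (enc (τ (enc.symm ⟨i, hi⟩))).val).trans b.symm)

/-- The graph of the homomorphism, as a submonoid. -/
def Target.graph (T : Target M) (gens : List (ℕ × T.E)) : Submonoid (Equiv.Perm GolayPt × M) :=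
  Submonoid.closure {p | ∃ g ∈ gens, Rep enc p.1 g.1 ∧ p.2 = T.dec g.2}

/-- The normal form of a table: only its first 24 entries. -/
def normTab (t : ℕ) : ℕ := (List.range 24).foldr (fun i acc => acc * 256 + app t i) 0

theorem Target.build_sound (T : Target M) {K : Subgroup (Equiv.Perm GolayPt)} {gens : List (ℕ × T.E)}
    (hg : ∀ g ∈ gens, InGroup enc K g.1) (hv : ∀ g ∈ gens, T.valid g.2 = true) :
    ∀ (steps : List (ℕ × ℕ)) (L : List (ℕ × T.E)),
      (∀ r ∈ L, normTab r.1 = r.1 ∧ T.valid r.2 = true ∧
        ∃ σ ∈ K, Rep enc σ r.1 ∧ (σ, T.dec r.2) ∈ T.graph gens) →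
      ∀ r ∈ T.build gens steps L, normTab r.1 = r.1 ∧ T.valid r.2 = true ∧
        ∃ σ ∈ K, Rep enc σ r.1 ∧ (σ, T.dec r.2) ∈ T.graph gens
  | [], _, h => h
  | (i, k) :: rest, L, h => by
    simp only [Target.build]
    split
    · rename_i r g hr hgk
      refine T.build_sound hg hv rest _ fun r' hr' => ?_
      rcases List.mem_cons.1 hr' with rfl | hr'
      · obtain ⟨-, hrv, σ, hσ, rσ, hmem⟩ := h r (List.mem_of_getElem? hr)
        have hgm := List.mem_of_getElem? hgk
        obtain ⟨τ, hτ, rτ⟩ := hg g hgm
        refine ⟨?_, T.valid_mul (hv g hgm) hrv, τ * σ, mul_mem hτ hσ, rep_compTab rτ rσ, ?_⟩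
        · have hmap : (List.range 24).map (fun i => app (compTab g.1 r.1) i) =
              (List.range 24).map (fun i => app g.1 (app r.1 i)) :=
            List.map_congr_left fun i hi =>
              foldr_app_lt _ 24 (fun j _ => Nat.mod_lt _ (by norm_num)) 0 i (List.mem_range.1 hi)
          show normTab (compTab g.1 r.1) = compTab g.1 r.1
          conv_rhs => rw [compTab]
          rw [normTab]
          have e1 : ∀ f : ℕ → ℕ, (List.range 24).foldr (fun i acc => acc * 256 + f i) 0 =
              ((List.range 24).map f).foldr (fun x acc => acc * 256 + x) 0 :=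
            fun f => by rw [List.foldr_map]
          rw [e1, e1 (fun i => app g.1 (app r.1 i)), hmap]
        · rw [show (T.pairMul g r).2 = T.mul g.2 r.2 from rfl, T.dec_mul (hv g hgm) hrv]
          exact (T.graph gens).mul_mem
            (Submonoid.subset_closure (⟨g, hgm, rτ, rfl⟩ : (τ, T.dec g.2) ∈ {p | ∃ g ∈ gens, Rep enc p.1 g.1 ∧ p.2 = T.dec g.2})) hmem
      · exact h r' hr'
    · exact h

/-- The homomorphism given by the certificate, with its values on the built list. -/
theorem Target.exists_hom (T : Target M) {K : Subgroup (Equiv.Perm GolayPt)} {gens : List (ℕ × T.E)}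
    (hg : ∀ g ∈ gens, InGroup enc K g.1) (steps : List (ℕ × ℕ)) (next : List (List ℕ)) (md : ℕ)
    (h : T.checkGraph gens steps next md = true)
    (hcard : Nat.card K ≤ (T.build gens steps [(idTab, T.one)]).length) :
    ∃ φ : K →* M, (∀ r ∈ T.build gens steps [(idTab, T.one)], ∃ σ : K,
      Rep enc σ r.1 ∧ φ σ = T.dec r.2) ∧ ∀ σ : K, ∃ r ∈ T.build gens steps [(idTab, T.one)],
      Rep enc σ r.1 ∧ φ σ = T.dec r.2 := by
  classical
  let R := T.build gens steps [(idTab, T.one)]
  simp only [Target.checkGraph, Bool.and_eq_true, List.all_eq_true, beq_iff_eq] at h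
  obtain ⟨⟨⟨hv, hkeys⟩, hlen⟩, hclosed⟩ := h
  have hR : ∀ r ∈ R, normTab r.1 = r.1 ∧ T.valid r.2 = true ∧
      ∃ σ ∈ K, Rep enc σ r.1 ∧ (σ, T.dec r.2) ∈ T.graph gens :=
    T.build_sound hg hv steps _ (fun r hr => by
      rw [List.mem_singleton.1 hr]
      refine ⟨(by decide +kernel : normTab idTab = idTab), T.valid_one, 1, one_mem _, rep_idTab, ?_⟩
      rw [T.dec_one]; exact one_mem _)
  have h1 : (idTab, T.one) ∈ R := by
    have key : ∀ (steps : List (ℕ × ℕ)) (L : List (ℕ × T.E)) (x : ℕ × T.E), x ∈ L →
        x ∈ T.build gens steps L := by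
      intro steps
      induction steps with
      | nil => intro L x hx; exact hx
      | cons s rest ih =>
        intro L x hx
        obtain ⟨i, k⟩ := s
        simp only [Target.build]
        split
        · exact ih _ x (List.mem_cons_of_mem _ hx)
        · exact hx
    exact key steps _ _ (List.mem_singleton.2 rfl)
  -- every member of the graph is listed
  have hlist : ∀ p ∈ T.graph gens, ∃ r ∈ R, Rep enc p.1 r.1 ∧ p.2 = T.dec r.2 := by
    intro p hp
    induction hp using Submonoid.closure_induction_left with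
    | one => exact ⟨_, h1, rep_idTab, T.dec_one.symm⟩
    | mul_left x hx y _ ih =>
      obtain ⟨r, hr, rr, er⟩ := ih
      obtain ⟨g, hgm, rg, eg⟩ := hx
      obtain ⟨i, hi⟩ := List.mem_iff_getElem?.1 hgm
      have hilt : i < next.length := by
        rw [hlen]; exact (List.getElem?_eq_some_iff.1 hi).1
      have hz : (g, next[i]) ∈ gens.zip next :=
        List.mem_iff_getElem?.2 ⟨i, List.getElem?_zip_eq_some.2 ⟨hi, List.getElem?_eq_getElem hilt⟩⟩
      obtain ⟨hnl, hall⟩ := hclosed _ hz
      obtain ⟨j, hj⟩ := List.mem_iff_getElem?.1 hr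
      have hjlt : j < next[i].length := by
        rw [hnl]; exact (List.getElem?_eq_some_iff.1 hj).1
      have hz2 : (r, next[i][j]) ∈ R.zip next[i] :=
        List.mem_iff_getElem?.2 ⟨j, List.getElem?_zip_eq_some.2 ⟨hj, List.getElem?_eq_getElem hjlt⟩⟩
      have := hall _ hz2
      split at this
      · rename_i r' hr'
        simp only [Bool.and_eq_true, beq_iff_eq] at this
        refine ⟨r', List.mem_of_getElem? hr', this.1 ▸ rep_compTab rg rr, ?_⟩
        rw [Prod.snd_mul, eg, er, ← T.dec_mul (hv g hgm) (hR r hr).2.1]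
        exact T.dec_same this.2
      · exact absurd this (by simp)
  obtain ⟨hnd, -⟩ := keysDistinct_nodup md _ 0 hkeys
  -- equal permutations mean equal entries
  have huniq : ∀ r ∈ R, ∀ r' ∈ R, ∀ σ, Rep enc σ r.1 → Rep enc σ r'.1 → r = r' := by
    intro r hr r' hr' σ h h'
    have e : r.1 = r'.1 := by
      rw [← (hR r hr).1, ← (hR r' hr').1, normTab, normTab]
      have e1 : ∀ f : ℕ → ℕ, (List.range 24).foldr (fun i acc => acc * 256 + f i) 0 =
          ((List.range 24).map f).foldr (fun x acc => acc * 256 + x) 0 :=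
        fun f => by rw [List.foldr_map]
      rw [e1, e1 (fun i => app r'.1 i), List.map_congr_left fun i hi =>
        rep_apply_eq h h' rfl i (List.mem_range.1 hi)]
    exact List.inj_on_of_nodup_map hnd hr hr' e
  -- the first projection is onto
  have hex : ∀ k : K, ∃ r ∈ R, Rep enc (k : Equiv.Perm GolayPt) r.1 ∧
      ((k : Equiv.Perm GolayPt), T.dec r.2) ∈ T.graph gens := by
    choose hn hvr σ hσK hrep hmem using hR
    let f : {r // r ∈ R} → K := fun r => ⟨σ r.1 r.2, hσK r.1 r.2⟩
    have hinj : Function.Injective f := fun a b e => Subtype.ext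
      (huniq a.1 a.2 b.1 b.2 _ (hrep a.1 a.2)
        (by rw [show σ a.1 a.2 = σ b.1 b.2 from congrArg Subtype.val e]; exact hrep b.1 b.2))
    have hsur : Function.Surjective f := by
      have hc : Nat.card {r // r ∈ R} = R.length := by
        rw [← List.toFinset_card_of_nodup (List.Nodup.of_map _ hnd), Nat.subtype_card R.toFinset]
        simp
      exact ((Nat.bijective_iff_injective_and_card f).2
        ⟨hinj, le_antisymm (Nat.card_le_card_of_injective f hinj) (hc ▸ hcard)⟩).2
    intro k
    obtain ⟨⟨r, hr⟩, rfl⟩ := hsur k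
    exact ⟨r, hr, hrep r hr, hmem r hr⟩
  choose ρ hρ hρrep hρmem using hex
  have hval : ∀ (k : K) (p : M), ((k : Equiv.Perm GolayPt), p) ∈ T.graph gens → p = T.dec (ρ k).2 := by
    intro k p hp
    obtain ⟨r, hr, rr, er⟩ := hlist _ hp
    have er' : p = T.dec r.2 := er
    rw [er', huniq r hr (ρ k) (hρ k) _ rr (hρrep k)]
  refine ⟨⟨⟨fun k => T.dec (ρ k).2, (hval 1 1 (one_mem _)).symm⟩, fun a b =>
    (hval (a * b) _ ((T.graph gens).mul_mem (hρmem a) (hρmem b))).symm⟩, fun r hr => ?_,
    fun k => ⟨ρ k, hρ k, hρrep k, rfl⟩⟩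
  · obtain ⟨-, -, σ, hσ, rσ, hm⟩ := hR r hr
    exact ⟨⟨σ, hσ⟩, rσ, (hval ⟨σ, hσ⟩ _ hm).symm⟩

end

end CfsgLib.GolayConfig
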