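import Cfsg.Agent.GolayConfig.NormalizerCert
import Cfsg.Agent.GolayConfig.NormData
import Cfsg.Agent.SporadicOut.MathieuGlue

/-!
No subgroups of index 56 or 210 in the Mathieu group of degree 22.
-/

set_option autoImplicit false

namespace CfsgLib.GolayConfig

open Cfsg CfsgLib.Mathieu CfsgLib.SporadicOut

theorem exists_M22_elt {t : ℕ} (h : inM22 t = true) : ∃ σ : Spor.M22, Rep CfsgLib.Mathieu.enc σ.1 t := by
  obtain ⟨σ, hσ, r⟩ := inGroup_of_inM22 h
  exact ⟨⟨σ, hσ⟩, r⟩

/-- The Sylow data of the group of degree 22 at 11 and 5, with an element of order 7. -/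
theorem m22_sylow_data : ∃ σ τ ρ : Spor.M22, orderOf σ = 11 ∧ orderOf τ = 5 ∧
    Nat.card (normOf σ) = 55 ∧ Nat.card (normOf τ) = 20 ∧ τ ∈ normOf σ ∧ ρ ∈ normOf τ ∧
    orderOf (ρ * σ) = 7 := by
  obtain ⟨σ, hσ⟩ := exists_M22_elt (t := NormData.a22_11) (by decide +kernel)
  obtain ⟨τ, hτ⟩ := exists_M22_elt (t := NormData.b22_11) (by decide +kernel)
  obtain ⟨ρ, hρ⟩ := exists_M22_elt (t := NormData.b22_5) (by decide +kernel)
  obtain ⟨ho1, ho2, hc1, hm1, -⟩ := card_normalizer_eq SporM22_le fixM22 (q := 5)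
    (k := NormData.k22_11) hσ hτ (p := 11) (by norm_num) (by norm_num) (by norm_num)
    (by decide +kernel) (by decide +kernel) (by decide +kernel) (lev := NormData.lev22_11)
    (Ls := NormData.lists22_11) (by decide +kernel) (by decide +kernel)
  obtain ⟨-, -, hc2, hm2, -⟩ := card_normalizer_eq SporM22_le fixM22 (q := 4)
    (k := NormData.k22_5) hτ hρ (p := 5) (by norm_num) (by norm_num) (by norm_num)
    (by decide +kernel) (by decide +kernel) (by decide +kernel) (lev := NormData.lev22_5)
    (Ls := NormData.lists22_5) (by decide +kernel) (by decide +kernel)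
  exact ⟨σ, τ, ρ, ho1, ho2, hc1, hc2, hm1, hm2,
    orderOf_of_hasOrder (σ := ρ * σ) (by norm_num) (rep_compTab hρ hσ) (by decide +kernel)⟩

theorem m22_no_index_56_210 (H : Subgroup Spor.M22) : H.index ≠ 56 ∧ H.index ≠ 210 := by
  obtain ⟨σ, τ, ρ, ho1, ho2, hc1, hc2, hm1, hm2, ho7⟩ := m22_sylow_data
  have main : ∀ i, H.index = i → (i = 56 ∨ i = 210) → False := by
    intro i hi hcases
    have hmul := Subgroup.index_mul_card H
    rw [hi, card_SporM22] at hmul
    have hdvd : 11 ∣ Nat.card H := by rcases hcases with rfl | rfl <;> omega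
    obtain ⟨g, hg⟩ := exists_conj_mem (p := 11) (by norm_num) ho1
      (by rw [card_SporM22]; norm_num) hdvd
    set H' : Subgroup Spor.M22 := H.comap (MulAut.conj g).toMonoidHom with hH'
    have hcard : Nat.card H' = Nat.card H := by
      exact Nat.card_congr (Equiv.subtypeEquiv (MulAut.conj g).toEquiv fun x => Iff.rfl)
    obtain ⟨m, hmN, hpm, hmH, hmod, hfull⟩ := exists_sylow_number (by norm_num) ho1
      (by rw [card_SporM22]; norm_num) hc1 (H := H') hg
    rw [hcard] at hmH hmod
    rcases hcases with rfl | rfl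
    · have hH : Nat.card H = 7920 := by omega
      rw [hH] at hmH hmod
      have hle := Nat.le_of_dvd (by norm_num) hmN
      have hm : m = 55 := by interval_cases m <;> omega
      have hτH : τ ∈ H' := hfull hm hm1
      obtain ⟨m', hmN', hpm', hmH', hmod', hfull'⟩ := exists_sylow_number (by norm_num) ho2
        (by rw [card_SporM22]; norm_num) hc2 (H := H') hτH
      rw [hcard, hH] at hmH' hmod'
      have hle' := Nat.le_of_dvd (by norm_num) hmN'
      have hm' : m' = 20 := by interval_cases m' <;> omega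
      have h7 : 7 ∣ Nat.card H' := ho7 ▸ Subgroup.orderOf_dvd_natCard H'
        (H'.mul_mem (hfull' hm' hm2) hg)
      rw [hcard, hH] at h7
      norm_num at h7
    · have hH : Nat.card H = 2112 := by omega
      rw [hH] at hmH hmod
      have hle := Nat.le_of_dvd (by norm_num) hmN
      interval_cases m <;> omega
  exact ⟨fun h => main 56 h (Or.inl rfl), fun h => main 210 h (Or.inr rfl)⟩

end CfsgLib.GolayConfig
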