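import Mathlib

/-!
Orbit tree of the pairs in the Mathieu group of degree 23.
-/

set_option autoImplicit false

namespace CfsgLib.GolayConfig

/-- Orbit tree of a pair under `gM23`, 253 objects. -/
def trPair23 : List (ℕ × ℕ) := [(0, 0), (1, 1), (1, 0), (2, 1), (2, 0), (3, 1), (3, 0), (4, 1), (4, 0), (5, 1), (5, 0), (6, 1),
    (6, 0), (7, 1), (7, 0), (8, 1), (8, 0), (9, 1), (9, 0), (10, 1), (10, 0), (11, 1), (11, 0),
    (12, 1), (12, 0), (13, 1), (13, 0), (14, 1), (14, 0), (15, 1), (15, 0), (16, 1), (16, 0), (17, 1),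
    (17, 0), (18, 1), (18, 0), (19, 1), (19, 0), (20, 1), (20, 0), (21, 1), (21, 0), (22, 1), (22, 0),
    (23, 1), (23, 0), (22, 0), (23, 1), (23, 0), (24, 1), (24, 0), (25, 1), (25, 0), (26, 1), (26, 0),
    (27, 1), (27, 0), (28, 1), (28, 0), (29, 1), (29, 0), (29, 0), (30, 1), (30, 0), (31, 1), (31, 0),
    (32, 1), (32, 0), (32, 0), (33, 1), (33, 0), (34, 1), (34, 1), (34, 1), (34, 1), (33, 0), (34, 1),
    (34, 0), (35, 1), (35, 1), (35, 0), (36, 1), (36, 0), (37, 1), (37, 0), (38, 1), (38, 0), (39, 1),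
    (38, 0), (38, 0), (39, 1), (39, 0), (38, 0), (38, 1), (38, 1), (38, 0), (39, 1), (38, 0), (39, 1),
    (39, 0), (40, 1), (40, 0), (41, 1), (41, 0), (42, 1), (42, 0), (43, 1), (43, 1), (43, 0), (44, 1),
    (44, 0), (45, 1), (45, 0), (46, 1), (45, 0), (46, 1), (46, 0), (47, 1), (47, 0), (48, 1), (48, 0),
    (49, 1), (49, 0), (50, 1), (50, 0), (50, 0), (51, 1), (51, 0), (52, 1), (51, 0), (51, 0), (52, 1),
    (52, 0), (52, 0), (52, 0), (52, 0), (53, 1), (53, 1), (53, 1), (53, 0), (53, 1), (53, 0), (53, 0),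
    (54, 1), (54, 0), (55, 1), (54, 0), (54, 0), (54, 1), (54, 0), (55, 1), (55, 0), (56, 1), (56, 1),
    (56, 0), (57, 1), (57, 1), (57, 0), (57, 1), (57, 1), (57, 0), (58, 1), (58, 1), (58, 0), (59, 1),
    (59, 0), (60, 1), (60, 0), (58, 0), (59, 1), (59, 0), (59, 0), (60, 1), (60, 0), (61, 1), (61, 0),
    (62, 1), (62, 0), (62, 0), (63, 1), (63, 0), (64, 1), (63, 0), (63, 0), (63, 0), (64, 1), (64, 0),
    (63, 0), (64, 1), (64, 0), (65, 1), (65, 0), (66, 1), (64, 0), (65, 1), (64, 0), (65, 1), (65, 0),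
    (63, 0), (64, 1), (64, 0), (64, 0), (63, 1), (63, 0), (63, 0), (64, 1), (64, 0), (64, 0), (64, 0),
    (61, 1), (60, 1), (60, 0), (59, 1), (58, 0), (58, 1), (58, 0), (58, 0), (58, 0), (59, 1), (59, 0),
    (60, 1), (60, 0), (58, 1), (57, 0), (57, 1), (56, 1), (53, 1), (53, 0), (53, 1), (53, 0), (52, 1),
    (49, 1), (49, 0), (47, 0), (47, 0), (46, 0), (46, 0), (45, 1), (44, 1), (40, 0), (39, 1), (39, 1),
    (38, 0), (37, 1), (35, 0), (33, 0), (25, 0), (19, 0), (20, 1), (13, 0), (8, 0)]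

end CfsgLib.GolayConfig
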