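import Cfsg.Agent.GolayConfig.QuartetOrbits
import Cfsg.Agent.Mathieu.SmallOrders

/-!
Orders of configuration stabilisers inside the dodecad stabiliser, and conjugation of joint
stabilisers inside `M24` to standard subgroups of the symmetric group.
-/

set_option autoImplicit false

namespace CfsgLib.GolayConfig

open Cfsg CfsgLib.Mathieu
open scoped Pointwise

/-- Orbit–stabiliser for a cut. -/
theorem card_cut {X : Type} [MulAction (Equiv.Perm GolayPt) X] (K : Subgroup (Equiv.Perm GolayPt))
    (C : Coding X) (x : C.E) (Ω : Set X) (hreach : ∀ y ∈ Ω, Moves K (C.dec x) y)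
    (hinv : ∀ σ ∈ K, σ • C.dec x ∈ Ω) : Nat.card K = Ω.ncard * Nat.card (cut K C x) := by
  have horb : MulAction.orbit K (C.dec x) = Ω := by
    ext y
    constructor
    · rintro ⟨g, rfl⟩; exact hinv g g.2
    · intro hy
      obtain ⟨σ, hσ, e⟩ := hreach y hy
      exact ⟨⟨σ, hσ⟩, e⟩
  rw [← horb, ← MulAction.index_stabilizer, cut,
    ← Nat.card_congr (stabilizerInfEquiv K (C.dec x)).toEquiv, Subgroup.index_mul_card]

theorem H12_eq : H12 = Spor.M12 := by
  have e : setOf24 cD = Spor.squareDodecad := by rw [squareDodecad_eq]; decide +kernel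
  show M24 ⊓ MulAction.stabilizer _ (setOf24 cD) = _
  rw [e]; rfl

theorem card_H12 : Nat.card H12 = 95040 := by rw [H12_eq]; exact card_SporM12

theorem H12_le : H12 ≤ M24 := fun _ h => h.1

theorem H11_le : H11 ≤ M24 := fun _ h => h.1.1

theorem H12_mem_iff {σ : Equiv.Perm GolayPt} (h : σ ∈ H12) (p : GolayPt) :
    σ p ∈ setOf24 cD ↔ p ∈ setOf24 cD := by
  conv_lhs => rw [show setOf24 cD = σ • setOf24 cD from h.2.symm]
  exact smul_mem_iff σ p _

/-- The standard dodecad as a set. -/
def dSet : Set GolayPt := ↑(setOf24 cD)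

theorem ncard_dSet : dSet.ncard = 12 := by
  rw [dSet, Set.ncard_coe_finset, card_setOf24]; decide +kernel

theorem ncard_dSet_compl : {p : GolayPt | p ∉ setOf24 cD}.ncard = 12 := by
  rw [Set.ncard_eq_toFinset_card']
  decide +kernel

theorem card_H11 : Nat.card H11 = 7920 := by
  have h := card_cut H12 ptCoding (0 : ℕ) dSet
    (fun y hy => moves_pointSet gens12 0 trM12pt (fun i => hasPt i cD) (by decide +kernel)
      (by rw [hasPt_iff (idx_lt _), pt_idx]; exact hy))
    (fun σ hσ => (H12_mem_iff hσ _).2 (by decide +kernel))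
  rw [card_H12, ncard_dSet] at h
  change 95040 = 12 * Nat.card H11 at h
  omega

/-- Transitivity of `H11` on the points outside the dodecad. -/
theorem moves_H11_out {p : GolayPt} (hp : p ∉ setOf24 cD) : Moves H11 (pt 23) p :=
  moves_pointSet gens11 23 trL11out (fun i => !hasPt i cD) (by decide +kernel)
    (by rw [Bool.not_eq_true', Bool.eq_false_iff, ne_eq, hasPt_iff (idx_lt _), pt_idx]; exact hp)

theorem pt23_out : pt 23 ∉ setOf24 cD := by decide +kernel

theorem card_H11out : Nat.card (cut H11 ptCoding (23 : ℕ)) = 660 := by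
  have h := card_cut H11 ptCoding (23 : ℕ) {p : GolayPt | p ∉ setOf24 cD}
    (fun y hy => moves_H11_out hy)
    (fun σ hσ hc => pt23_out ((H12_mem_iff hσ.1 _).1 hc))
  rw [card_H11, ncard_dSet_compl] at h
  omega

theorem cOut2_spec : (setOf24 cOut2).card = 2 ∧ ∀ p ∈ setOf24 cOut2, p ∉ setOf24 cD := by
  decide +kernel

/-- Transitivity of `H11` on the pairs outside the dodecad. -/
theorem moves_H11_pair {s : Finset GolayPt} (hs : s.card = 2) (hd : ∀ p ∈ s, p ∉ setOf24 cD) :
    Moves H11 (setOf24 cOut2) s :=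
  moves_pairSet gens11 cOut2 trS5out (fun M => wt (cD &&& M) == 0) (by decide +kernel) hs
    (by rw [beq_iff_eq, wt_and_maskOf, Finset.card_eq_zero, ← Finset.disjoint_iff_inter_eq_empty,
          Finset.disjoint_right]
        exact hd)

theorem card_H11pair : Nat.card (cut H11 setCoding cOut2) = 120 := by
  let Ω : Finset (Finset GolayPt) := (Finset.univ \ setOf24 cD).powersetCard 2
  have h := card_cut H11 setCoding cOut2 (↑Ω : Set (Finset GolayPt))
    (fun y hy => by
      obtain ⟨hsub, hc⟩ := Finset.mem_powersetCard.1 (Finset.mem_coe.1 hy)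
      exact moves_H11_pair hc fun p hp => (Finset.mem_sdiff.1 (hsub hp)).2)
    (fun σ hσ => by
      rw [Finset.mem_coe, Finset.mem_powersetCard]
      refine ⟨fun p hp => ?_, by rw [Finset.card_smul_finset]; exact cOut2_spec.1⟩
      obtain ⟨q, hq, rfl⟩ := Finset.mem_smul_finset.1 hp
      exact Finset.mem_sdiff.2 ⟨Finset.mem_univ _,
        fun hc => cOut2_spec.2 q hq ((H12_mem_iff hσ.1 _).1 hc)⟩)
  rw [card_H11, Set.ncard_coe_finset, Finset.card_powersetCard,
    show (Finset.univ \ setOf24 cD).card = 12 by decide +kernel] at h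
  norm_num [Nat.choose] at h
  omega

/-- The stabiliser of the standard dodecad and quartet. -/
def HQ : Subgroup (Equiv.Perm GolayPt) := cut H12 famCoding cQuartet

theorem gensQ : ∀ t ∈ gQS, InGroup enc HQ t :=
  inGroup_of_checks (inGroup_of_checks (inGroup_of_isM24 (by decide +kernel)) (by decide +kernel))
    (by decide +kernel)

theorem card_HQ : Nat.card HQ = 432 := by
  have h := card_cut H12 famCoding cQuartet (quartets (setOf24 cD))
    (fun y hy => moves_quartet_std hy)
    (fun σ hσ => by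
      have := smul_mem_quartets hσ.1 cQuartet_mem
      rwa [show σ • setOf24 cD = setOf24 cD from hσ.2] at this)
  rw [card_H12, ncard_quartets_std] at h
  change 95040 = 220 * Nat.card HQ at h
  omega

/-- A subgroup of `M24` carried to a subgroup of the symmetric group by conjugation. -/
def subConj {A : Subgroup ↥M24} {K : Subgroup (Equiv.Perm GolayPt)} {σ : Equiv.Perm GolayPt}
    (hσ : σ ∈ M24) (hK : K ≤ M24)
    (h : ∀ g : ↥M24, g ∈ A ↔ σ⁻¹ * (g : Equiv.Perm GolayPt) * σ ∈ K) : ↥A ≃* ↥K where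
  toFun g := ⟨σ⁻¹ * g.1.1 * σ, (h g.1).1 g.2⟩
  invFun k := ⟨⟨σ * k.1 * σ⁻¹, mul_mem (mul_mem hσ (hK k.2)) (inv_mem hσ)⟩,
    (h _).2 (by
      show σ⁻¹ * (σ * k.1 * σ⁻¹) * σ ∈ K
      rw [show σ⁻¹ * (σ * k.1 * σ⁻¹) * σ = k.1 by group]
      exact k.2)⟩
  left_inv g := by ext1; ext1; simp [mul_assoc]
  right_inv k := by ext1; simp [mul_assoc]
  map_mul' g g' := by ext1; simp [mul_assoc]

theorem stab_conj_iff {X : Type} [MulAction (Equiv.Perm GolayPt) X] {σ g : Equiv.Perm GolayPt}
    {x y : X} (h : σ • x = y) : (σ⁻¹ * g * σ) • x = x ↔ g • y = y := by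
  rw [mul_smul, mul_smul, h, inv_smul_eq_iff, h]

end CfsgLib.GolayConfig
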