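import Cfsg.Agent.GolayConfig.SylowM23
import Cfsg.Agent.GolayConfig.OctadOrbits
import Cfsg.Agent.GolayConfig.Stabilisers
import Cfsg.Agent.GolayConfig.IndexM23Data

/-!
Subgroups of index 253 in the Mathieu group of degree 23.
-/

set_option autoImplicit false

namespace CfsgLib.GolayConfig

open Cfsg CfsgLib.Mathieu
open scoped Pointwise

theorem H23_eq : H23 = Spor.M23 := Subgroup.ext fun _ => by rw [mem_SporM23]; rfl

/-- The pair fixed by the normaliser at 7. -/
def cP2 : ℕ := 4718592

/-- The octad through infinity fixed by the normaliser at 7. -/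
def cO7 : ℕ := 8505411

theorem cO7_spec : setOf24 cO7 ∈ octads ∧ pt 23 ∈ setOf24 cO7 :=
  ⟨setOf24_mem_wordsOfWeight (by decide +kernel) (by decide +kernel),
    (hasPt_iff (by norm_num)).1 (by decide +kernel)⟩

theorem card_stab_P2 : Nat.card (cut H23 setCoding cP2) = 40320 := by
  let Ω : Finset (Finset GolayPt) := (Finset.univ.erase (pt 23)).powersetCard 2
  have h := card_cut H23 setCoding cP2 (↑Ω : Set (Finset GolayPt))
    (fun y hy => by
      obtain ⟨hsub, hc⟩ := Finset.mem_powersetCard.1 (Finset.mem_coe.1 hy)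
      refine moves_pairSet gens23 cP2 trPair23 (fun M => !hasPt 23 M) (by decide +kernel) hc ?_
      rw [Bool.not_eq_true', Bool.eq_false_iff, ne_eq, hasPt_maskOf (by norm_num)]
      exact fun hm => (Finset.mem_erase.1 (hsub hm)).1 rfl)
    (fun σ hσ => by
      rw [Finset.mem_coe, Finset.mem_powersetCard]
      refine ⟨fun p hp => ?_, by rw [Finset.card_smul_finset]; exact (by decide +kernel : (setOf24 cP2).card = 2)⟩
      obtain ⟨q, hq, rfl⟩ := Finset.mem_smul_finset.1 hp
      refine Finset.mem_erase.2 ⟨fun e => ?_, Finset.mem_univ _⟩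
      have h23 : σ (pt 23) = pt 23 := hσ.2
      have : q = pt 23 := σ.injective (e.trans h23.symm)
      subst this
      exact (by decide +kernel : pt 23 ∉ setOf24 cP2) hq)
  rw [show Nat.card H23 = 10200960 by rw [H23_eq, card_SporM23], Set.ncard_coe_finset,
    Finset.card_powersetCard, Finset.card_erase_of_mem (Finset.mem_univ _),
    Finset.card_univ, Fintype.card_option, ZMod.card] at h
  norm_num [Nat.choose_two_right] at h
  omega

theorem octX_spec : isCode cOctX = true ∧ wt cOctX = 8 ∧ hasPt 23 cOctX = true := by decide +kernel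

theorem moves_octad_inf {o : Finset GolayPt} (ho : o ∈ octads) (h : pt 23 ∈ o) :
    Moves H23 (setOf24 cO7) o := by
  have key : ∀ u ∈ octads, pt 23 ∈ u → Moves H23 (setOf24 cOctX) u := fun u hu hu' =>
    moves_codeSet gens23 cOctX trOctX (fun M => isOct M && hasPt 23 M) octX_spec.1 (by decide +kernel)
      hu.1 (by
        rw [Bool.and_eq_true]
        exact ⟨isOct_maskOf hu, (hasPt_maskOf (by norm_num) _).2 hu'⟩)
  exact ((key _ cO7_spec.1 cO7_spec.2).symm).trans (key o ho h)

theorem card_stab_O7 : Nat.card (cut H23 setCoding cO7) = 40320 := by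
  have h := card_cut H23 setCoding cO7 {o : Finset GolayPt | o ∈ octads ∧ pt 23 ∈ o}
    (fun y hy => moves_octad_inf hy.1 hy.2)
    (fun σ hσ => ⟨(smul_mem_wordsOfWeight_iff hσ.1 8 _).2 cO7_spec.1, by
      have h23 : σ (pt 23) = pt 23 := hσ.2
      rw [← h23]
      exact Finset.smul_mem_smul_finset cO7_spec.2⟩)
  have hn : {o : Finset GolayPt | o ∈ octads ∧ pt 23 ∈ o}.ncard = 253 := by
    rw [setOf_octads_eq]
    exact ncard_codeSet (pred := fun M => isOct M && hasPt 23 M) (fun M => by
      simp only [Bool.and_eq_true, isOct_iff, hasPt_iff (by norm_num : 23 < 24)]) (by decide +kernel)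
  rw [show Nat.card H23 = 10200960 by rw [H23_eq, card_SporM23], hn] at h
  omega

/-- Orbit equivalence classes seen by the normaliser at 7. -/
def part7 (i : ℕ) : ℕ :=
  if hasPt i cP2 then 19 else if i == 23 then 23 else if hasPt i cO7 then 0 else 2

/-- Steps reaching each part by two tables. -/
def reachPart (x : ℕ) : Bool :=
  ((List.range 24).filter fun i => part7 i == x).all fun j =>
    (List.range 42).any fun k => app (powTab NormData.a23_7 (k % 7)) (app (powTab NormData.b23_7 (k / 7)) x) == j

theorem index_253_cases {H : Subgroup (Equiv.Perm GolayPt)} (hle : H ≤ Spor.M23)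
    (hcard : Nat.card H = 40320) {σ τ : Spor.M23}
    (hσ : Rep CfsgLib.Mathieu.enc σ.1 NormData.a23_7) (hτ : Rep CfsgLib.Mathieu.enc τ.1 NormData.b23_7)
    (hσH : σ.1 ∈ H) (hτH : τ.1 ∈ H) : H = cut H23 setCoding cP2 ∨ H = cut H23 setCoding cO7 := by
  classical
  let O : Finset GolayPt := Finset.univ.filter fun p => ∃ g ∈ H, g (pt 19) = p
  have hO : ∀ g ∈ H, g • O = O := fun g hg => by
    refine Finset.eq_of_subset_of_card_le (fun p hp => ?_) (by rw [Finset.card_smul_finset])
    obtain ⟨q, hq, rfl⟩ := Finset.mem_smul_finset.1 hp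
    obtain ⟨k, hk, rfl⟩ := (Finset.mem_filter.1 hq).2
    exact Finset.mem_filter.2 ⟨Finset.mem_univ _, g * k, mul_mem hg hk, rfl⟩
  have hreach : ([19, 0, 2].all fun x => reachPart x) = true := by decide +kernel
  have hparts : ∀ x ∈ [19, 0, 2], ∀ p, part7 (idx p) = x → ∃ g ∈ H, g (pt x) = p := by
    intro x hx p hp
    have h := List.all_eq_true.1 hreach x hx
    simp only [reachPart, List.all_eq_true, List.any_eq_true, List.mem_filter, List.mem_range,
      beq_iff_eq] at h
    obtain ⟨k, -, hk⟩ := h (idx p) ⟨idx_lt p, hp⟩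
    refine ⟨σ.1 ^ (k % 7) * τ.1 ^ (k / 7), mul_mem (pow_mem hσH _) (pow_mem hτH _), idx_injective ?_⟩
    have h1 := rep_powTab hτ (k / 7) (pt x)
    have h2 := rep_powTab hσ (k % 7) ((τ.1 ^ (k / 7)) (pt x))
    have hx24 : x < 24 := by
      simp only [List.mem_cons, List.not_mem_nil, or_false] at hx
      omega
    change app _ (idx (pt x)) = idx _ at h1
    change app _ (idx _) = idx _ at h2
    rw [idx_pt hx24] at h1
    rw [← h1, hk] at h2
    exact h2.symm
  have h23 : pt 23 ∉ O := fun h => by
    obtain ⟨g, hg, e⟩ := (Finset.mem_filter.1 h).2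
    have : g (pt 23) = pt 23 := (mem_SporM23.1 (hle hg)).2
    exact absurd (g.injective (e.trans this.symm)) (by decide +kernel)
  have hin : ∀ x ∈ [19, 0, 2], ∀ p, part7 (idx p) = x → (p ∈ O ↔ pt x ∈ O) := by
    intro x hx p hp
    obtain ⟨g, hg, e⟩ := hparts x hx p hp
    rw [← e]
    conv_lhs => rw [← hO g hg]
    exact smul_mem_iff g _ _
  have h19 : pt 19 ∈ O := Finset.mem_filter.2 ⟨Finset.mem_univ _, 1, one_mem _, rfl⟩
  have hdvd : O.card ∣ 40320 := by
    have h := Subgroup.index_mul_card (MulAction.stabilizer H (pt 19))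
    rw [MulAction.index_stabilizer, hcard] at h
    have e : MulAction.orbit H (pt 19) = ↑O := by
      ext p
      rw [Finset.mem_coe, Finset.mem_filter]
      exact ⟨fun ⟨g, hg⟩ => ⟨Finset.mem_univ _, g.1, g.2, hg⟩, fun ⟨_, g, hg, e⟩ => ⟨⟨g, hg⟩, e⟩⟩
    rw [e, Set.ncard_coe_finset] at h
    exact Dvd.intro _ h
  clear_value O
  have hfix : ∀ (S : Finset GolayPt), (∀ g ∈ H, g • S = S) → ∀ c, setOf24 c = S →
      Nat.card (cut H23 setCoding c) = 40320 → H = cut H23 setCoding c := by
    intro S hS c hc hcc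
    refine Subgroup.eq_of_le_of_card_ge (fun g hg => ⟨H23_eq ▸ hle hg, ?_⟩) (by rw [hcc, hcard])
    show g • setOf24 c = setOf24 c
    rw [hc]; exact hS g hg
  have hpt : ∀ p : GolayPt, part7 (idx p) = 19 ∨ part7 (idx p) = 0 ∨ part7 (idx p) = 2 ∨ p = pt 23 := by
    decide +kernel
  have hOeq : ∀ q : GolayPt → Bool, q (pt 23) = false → (pt 0 ∈ O ↔ q (pt 0) = true) →
      (pt 2 ∈ O ↔ q (pt 2) = true) → (∀ p, part7 (idx p) = 19 → q p = true) →
      (∀ p, part7 (idx p) = 0 → q p = q (pt 0)) → (∀ p, part7 (idx p) = 2 → q p = q (pt 2)) →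
      O = Finset.univ.filter fun p => q p = true := by
    intro q a b c h1 h2 h3
    ext p
    rw [Finset.mem_filter]
    rcases hpt p with h | h | h | rfl
    · simp [h1 p h, hin 19 (by simp) p h, h19]
    · simp [h2 p h, hin 0 (by simp) p h, b]
    · simp [h3 p h, hin 2 (by simp) p h, c]
    · simp [h23, a]
  by_cases h0 : pt 0 ∈ O <;> by_cases h2 : pt 2 ∈ O
  · have e := hOeq (fun p => !(p == pt 23)) (by decide +kernel) (by simp only [h0]; decide +kernel)
      (by simp only [h2]; decide +kernel) (by decide +kernel) (by decide +kernel) (by decide +kernel)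
    rw [e] at hdvd
    exact absurd hdvd (by decide +kernel)
  · -- nine points: the octad is the only one inside them together with infinity
    have e := hOeq (fun p => hasPt (idx p) (cP2 ||| (cO7 ^^^ 8388608))) (by decide +kernel)
      (by simp only [h0]; decide +kernel) (by simp only [h2]; decide +kernel)
      (by decide +kernel) (by decide +kernel) (by decide +kernel)
    refine Or.inr (hfix (setOf24 cO7) (fun g hg => ?_) cO7 rfl card_stab_O7)
    have hsub : ∀ p ∈ setOf24 cO7, p ∈ O ∨ p = pt 23 := by rw [e]; decide +kernel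
    have hg24 : g ∈ M24 := SporM23_le (hle hg)
    have hoct : g • setOf24 cO7 ∈ octads := (smul_mem_wordsOfWeight_iff hg24 8 _).2 cO7_spec.1
    have hsub' : ∀ p ∈ g • setOf24 cO7, p ∈ O ∨ p = pt 23 := fun p hp => by
      obtain ⟨x, hx, rfl⟩ := Finset.mem_smul_finset.1 hp
      rcases hsub x hx with h | rfl
      · exact Or.inl (hO g hg ▸ Finset.smul_mem_smul_finset h)
      · exact Or.inr (mem_SporM23.1 (hle hg)).2
    obtain ⟨m, hm, em⟩ := exists_codeMask ((mem_supports_iff _).1 hoct.1)
    have huniq : allBelow 4096 (fun m => !(isOct (codeMask m)) ||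
        (codeMask m &&& (cP2 ||| cO7) != codeMask m) || codeMask m == cO7) = true := by decide +kernel
    rw [allBelow_iff] at huniq
    have hu := huniq m hm
    have hand : codeMask m &&& (cP2 ||| cO7) = codeMask m := by
      refine setOf24_inj ?_ (by rw [← em]; exact maskOf_lt _) ?_
      · exact lt_of_le_of_lt Nat.and_le_left (by rw [← em]; exact maskOf_lt _)
      · rw [setOf24_and, ← em, setOf24_maskOf, Finset.inter_eq_left]
        intro p hp
        rw [e] at hsub'
        revert hp
        exact fun hp => (by decide +kernel : ∀ p : GolayPt,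
          (p ∈ Finset.univ.filter (fun p : GolayPt => hasPt (idx p) (cP2 ||| (cO7 ^^^ 8388608)) = true) ∨
            p = pt 23) → p ∈ setOf24 (cP2 ||| cO7)) p (hsub' p hp)
    rw [hand, ← em, isOct_maskOf hoct] at hu
    simp at hu
    rw [← setOf24_maskOf (g • setOf24 cO7), hu]
  · -- sixteen points: the complement is the heptad
    have e := hOeq (fun p => !(hasPt (idx p) cO7)) (by decide +kernel)
      (by simp only [h0]; decide +kernel) (by simp only [h2]; decide +kernel)
      (by decide +kernel) (by decide +kernel) (by decide +kernel)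
    refine Or.inr (hfix (setOf24 cO7) (fun g hg => ?_) cO7 rfl card_stab_O7)
    have e' : setOf24 cO7 = Finset.univ \ O := by rw [e]; decide +kernel
    rw [e', Finset.smul_finset_sdiff, Finset.smul_finset_univ, hO g hg]
  · have e := hOeq (fun p => hasPt (idx p) cP2) (by decide +kernel)
      (by simp only [h0]; decide +kernel) (by simp only [h2]; decide +kernel)
      (by decide +kernel) (by decide +kernel) (by decide +kernel)
    have e' : setOf24 cP2 = O := by rw [e]; decide +kernel
    exact Or.inl (hfix O hO cP2 e' card_stab_P2)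

end CfsgLib.GolayConfig
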