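import Cfsg.Agent.GolayConfig.QuartetStab
import Cfsg.Agent.GolayConfig.CentralizerData
import Cfsg.Agent.MEleven.Codes

/-!
Involutions of the eleven-point Mathieu group and their centralisers.
-/

set_option autoImplicit false

namespace CfsgLib.GolayConfig

open Cfsg CfsgLib.Mathieu
open scoped Pointwise

theorem H11_eq : H11 = Spor.M11 := by
  ext σ
  rw [mem_SporM11, ← H12_eq, ← pt_0]
  exact Iff.rfl

theorem exists_invol : ∃ ζ : Spor.M11, Rep enc ζ.1 tInv := by
  obtain ⟨σ, hσ, r⟩ := inGroup_of_checks (X := GolayPt) (C := ptCoding)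
    (inGroup_of_checks (inGroup_of_isM24 (gens := [tInv]) (by decide +kernel))
      (C := setCoding) (x := cD) (by decide +kernel))
    (x := (0 : ℕ)) (by decide +kernel) tInv (List.mem_singleton.2 rfl)
  exact ⟨⟨σ, H11_eq ▸ hσ⟩, r⟩

/-- The involution of the table. -/
noncomputable def zeta : Spor.M11 := exists_invol.choose

theorem rep_zeta : Rep enc zeta.1 tInv := exists_invol.choose_spec

/-- The code of the table of the involution. -/
def cInv : ℕ := MEleven.encT tInv

theorem enc_zeta : MEleven.enc zeta = cInv := by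
  refine congrArg MEleven.packDig (List.map_congr_left fun i hi => ?_)
  have h24 : ∀ j < 11, MEleven.pts.getD j 0 < 24 := by decide +kernel
  have := rep_zeta (MEleven.point i)
  change app tInv (idx (MEleven.point i)) = idx (zeta.1 (MEleven.point i)) at this
  rw [MEleven.point, idx_pt (h24 i (List.mem_range.1 hi))] at this
  rw [this]
  rfl

theorem cInv_check : (cInv == 11649936536080) = false ∧
    (MEleven.mulC cInv cInv == 11649936536080) = true := by decide +kernel

theorem zeta_sq : zeta * zeta = 1 :=
  MEleven.enc_injective (by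
    rw [MEleven.enc_mul, MEleven.enc_one, enc_zeta]; exact beq_iff_eq.1 cInv_check.2)

theorem zeta_ne_one : zeta ≠ 1 := fun h => by
  have := cInv_check.1
  rw [← enc_zeta, h, MEleven.enc_one] at this
  simp at this

/-- Counting through an injective list of codes. -/
theorem card_filter_of_codes {G : Type*} (f : G → ℕ) (hf : Function.Injective f) (L : List ℕ)
    (hn : L.Nodup) (hL : ∀ a, a ∈ L ↔ a ∈ Set.range f) (p : ℕ → Bool) :
    Nat.card {g : G // p (f g) = true} = (L.filter p).length := by
  classical
  rw [← List.toFinset_card_of_nodup (hn.filter _), ← Nat.card_eq_finsetCard]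
  refine Nat.card_congr (Equiv.ofBijective (fun g => ⟨f g.1,
    List.mem_toFinset.2 (List.mem_filter.2 ⟨(hL _).2 ⟨g.1, rfl⟩, g.2⟩)⟩)
    ⟨fun a b h => Subtype.ext (hf (congrArg Subtype.val h)), fun x => ?_⟩)
  obtain ⟨hx, hp⟩ := List.mem_filter.1 (List.mem_toFinset.1 x.2)
  obtain ⟨g, hg⟩ := (hL _).1 hx
  exact ⟨⟨g, by rw [hg]; exact hp⟩, Subtype.ext hg⟩

/-- Counting elements of the group through their codes. -/
theorem card_M11_filter (p : ℕ → Bool) :
    Nat.card {g : Spor.M11 // p (MEleven.enc g) = true} = (MEleven.els.filter p).length :=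
  card_filter_of_codes _ MEleven.enc_injective _ MEleven.els_nodup MEleven.mem_els p

theorem commute_of_tables {σ τ : Equiv.Perm GolayPt} {s t : ℕ} (hσ : Rep enc σ s) (hτ : Rep enc τ t)
    (e : compTab s t = compTab t s) : σ * τ = τ * σ := by
  refine rep_unique (rep_compTab hσ hτ) ?_
  rw [e]
  exact rep_compTab hτ hσ

set_option maxRecDepth 100000 in
theorem count_commute : (MEleven.els.filter fun a => MEleven.commC a cInv).length = 48 := by
  decide +kernel

set_option maxRecDepth 100000 in
theorem count_invol : (MEleven.els.filter fun a =>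
    MEleven.mulC a a == 11649936536080 && !(a == 11649936536080)).length = 165 := by decide +kernel

theorem card_centralizer_zeta : Nat.card (Subgroup.centralizer ({zeta} : Set Spor.M11)) = 48 := by
  rw [← count_commute, ← card_M11_filter]
  refine Nat.card_congr (Equiv.subtypeEquivRight fun g => ?_)
  rw [Subgroup.mem_centralizer_singleton_iff, ← enc_zeta, MEleven.commC_enc]
  exact Iff.rfl

theorem isConj_zeta {g : Spor.M11} (hg : g * g = 1) (hg1 : g ≠ 1) : IsConj zeta g := by
  classical
  let I : Set Spor.M11 := {g | g * g = 1 ∧ g ≠ 1}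
  have hI : I.ncard = 165 := by
    rw [← count_invol, ← card_M11_filter, ← Nat.card_coe_set_eq]
    refine Nat.card_congr (Equiv.subtypeEquivRight fun g => ?_)
    rw [Bool.and_eq_true, beq_iff_eq, Bool.not_eq_true', beq_eq_false_iff_ne, ← MEleven.enc_one,
      ← MEleven.enc_mul, MEleven.enc_injective.eq_iff, ne_eq, MEleven.enc_injective.eq_iff]
    exact Iff.rfl
  have hsub : MulAction.orbit (ConjAct Spor.M11) zeta ⊆ I := by
    rintro x ⟨c, rfl⟩
    show c • zeta * (c • zeta) = 1 ∧ c • zeta ≠ 1
    rw [← smul_mul', zeta_sq, smul_one]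
    exact ⟨rfl, fun h => zeta_ne_one ((MulAction.injective c) (h.trans (smul_one c).symm))⟩
  have hcard : (MulAction.orbit (ConjAct Spor.M11) zeta).ncard = 165 := by
    have h := Subgroup.index_mul_card (MulAction.stabilizer (ConjAct Spor.M11) zeta)
    rw [MulAction.index_stabilizer] at h
    have e1 : Nat.card (MulAction.stabilizer (ConjAct Spor.M11) zeta) = 48 := by
      rw [← card_centralizer_zeta]
      refine Nat.card_congr (Equiv.subtypeEquiv ConjAct.ofConjAct.toEquiv fun c => ?_)
      rw [MulAction.mem_stabilizer_iff, Subgroup.mem_centralizer_singleton_iff, ConjAct.smul_def,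
        mul_inv_eq_iff_eq_mul]
      exact Iff.rfl
    rw [e1, Nat.card_congr ConjAct.ofConjAct.toEquiv, card_SporM11] at h
    omega
  have : g ∈ MulAction.orbit (ConjAct Spor.M11) zeta := by
    rw [Set.eq_of_subset_of_ncard_le hsub (by rw [hI, hcard]) (Set.toFinite _)]
    exact ⟨hg, hg1⟩
  rw [ConjAct.mem_orbit_conjAct] at this
  exact this.symm

/-- The centraliser of the involution, inside the symmetric group. -/
noncomputable def KC : Subgroup (Equiv.Perm GolayPt) :=
  (Subgroup.centralizer ({zeta} : Set Spor.M11)).map Spor.M11.subtype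

theorem gensKC : ∀ g ∈ gensCI, InGroup enc KC g.1 := by
  intro g hg
  obtain ⟨σ, hσ, r⟩ := inGroup_of_checks (X := GolayPt) (C := ptCoding)
    (inGroup_of_checks (inGroup_of_isM24 (gens := gensCI.map Prod.fst) (by decide +kernel))
      (C := setCoding) (x := cD) (by decide +kernel))
    (x := (0 : ℕ)) (by decide +kernel) g.1 (List.mem_map_of_mem hg)
  refine ⟨σ, Subgroup.mem_map.2 ⟨⟨σ, H11_eq ▸ hσ⟩, ?_, rfl⟩, r⟩
  rw [Subgroup.mem_centralizer_singleton_iff]
  exact Subtype.ext (commute_of_tables r rep_zeta
    ((by decide +kernel : ∀ t ∈ gensCI.map Prod.fst, compTab t tInv = compTab tInv t) g.1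
      (List.mem_map_of_mem hg)))

theorem card_KC : Nat.card KC = 48 := by
  rw [← card_centralizer_zeta]
  exact (Nat.card_congr (Subgroup.equivMapOfInjective _ _ Spor.M11.subtype_injective).toEquiv).symm

/-- The elements built for GL(2, 3). -/
def listCI : List (ℕ × Quad (ZMod 3)) := matTarget.build gensCI stepsCI [(idTab, matTarget.one)]

theorem checkCI : matTarget.checkGraph gensCI stepsCI [nextCI0, nextCI1] modCI = true := by
  decide +kernel

theorem listCI_one : listCI.all (fun r => !(decide (r.2 = (1, 0, 0, 1))) || r.1 == idTab) = true := by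
  decide +kernel

theorem exists_centralizer_iso :
    Nonempty (↥(Subgroup.centralizer ({zeta} : Set Spor.M11)) ≃* GL (Fin 2) (ZMod 3)) := by
  obtain ⟨φ, -, hcov⟩ := matTarget.exists_hom (K := KC) (gens := gensCI) gensKC stepsCI
    [nextCI0, nextCI1] modCI checkCI
    (by rw [card_KC]; exact (by decide +kernel : 48 ≤ listCI.length))
  have hinj : Function.Injective φ.toHomUnits := by
    refine (injective_iff_map_eq_one _).2 fun σ hσ => ?_
    obtain ⟨r, hr, hrep, he⟩ := hcov σ
    have h1 : quadMat r.2 = 1 := by
      have := congrArg Units.val hσ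
      rw [MonoidHom.coe_toHomUnits, Units.val_one] at this
      exact he.symm.trans this
    have hq : r.2 = (1, 0, 0, 1) := by
      have a := congrFun (congrFun h1 0) 0
      have b := congrFun (congrFun h1 0) 1
      have c := congrFun (congrFun h1 1) 0
      have d := congrFun (congrFun h1 1) 1
      simp [quadMat] at a b c d
      exact Prod.ext a (Prod.ext b (Prod.ext c d))
    have hk := List.all_eq_true.1 listCI_one r hr
    rw [Bool.or_eq_true, Bool.not_eq_true', decide_eq_false_iff_not, beq_iff_eq] at hk
    exact Subtype.ext (rep_unique hrep (hk.resolve_left (fun h => h hq) ▸ rep_idTab))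
  exact ⟨(Subgroup.equivMapOfInjective _ _ Spor.M11.subtype_injective).trans
    (MulEquiv.ofBijective φ.toHomUnits ((Nat.bijective_iff_injective_and_card _).2
      ⟨hinj, card_KC.trans card_GL23.symm⟩))⟩

/-- Every involution of the group has such a centraliser. -/
theorem centralizer_iso_GL23 {G : Type*} [Group G] (e : G ≃* Spor.M11) (x : G) (hx : orderOf x = 2) :
    Nonempty (↥(Subgroup.centralizer ({x} : Set G)) ≃* GL (Fin 2) (ZMod 3)) := by
  have h2 : x * x = 1 := by rw [← pow_two, ← hx]; exact pow_orderOf_eq_one x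
  have hne : x ≠ 1 := fun h => by simp [h] at hx
  obtain ⟨c, hc⟩ := isConj_iff.1 (isConj_zeta (g := e x) (by rw [← map_mul, h2, map_one])
    (fun h => hne (e.injective (h.trans (map_one e).symm))))
  let f : G ≃* Spor.M11 := e.trans (MulAut.conj c⁻¹)
  have hf : f x = zeta := by
    show c⁻¹ * e x * c⁻¹⁻¹ = zeta
    rw [← hc]; group
  have hmap : (Subgroup.centralizer ({x} : Set G)).map (f : G →* Spor.M11) =
      Subgroup.centralizer ({zeta} : Set Spor.M11) := by
    ext y
    rw [Subgroup.map_equiv_eq_comap_symm, Subgroup.mem_comap, Subgroup.mem_centralizer_singleton_iff,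
      Subgroup.mem_centralizer_singleton_iff, ← hf]
    rw [← f.injective.eq_iff]
    simp
  obtain ⟨g⟩ := exists_centralizer_iso
  exact ⟨((f.subgroupMap _).trans (MulEquiv.subgroupCongr hmap)).trans g⟩

end CfsgLib.GolayConfig
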