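import Mathlib

/-!
Subgroups meeting a group whose order a prime divides exactly once.
-/

set_option autoImplicit false

namespace CfsgLib.GolayConfig

variable {G : Type*} [Group G] [Finite G]

/-- The order of a Sylow normaliser in a subgroup. -/
theorem card_inf_normalizer_facts {p : ℕ} (hp : p.Prime) {a : G} (ha : orderOf a = p)
    (hG : ¬ p * p ∣ Nat.card G) {H : Subgroup G} (haH : a ∈ H) :
    p ∣ Nat.card ↥(H ⊓ Subgroup.normalizer (Subgroup.zpowers a : Set G)) ∧
    Nat.card ↥(H ⊓ Subgroup.normalizer (Subgroup.zpowers a : Set G)) ∣ Nat.card H ∧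
    Nat.card H / Nat.card ↥(H ⊓ Subgroup.normalizer (Subgroup.zpowers a : Set G)) % p = 1 := by
  have : Fact p.Prime := ⟨hp⟩
  have hle : Subgroup.zpowers a ≤ H := Subgroup.zpowers_le.2 haH
  have hH : ¬ p * p ∣ Nat.card H := fun h => hG (h.trans (Subgroup.card_subgroup_dvd_card H))
  have hZ : Nat.card ((Subgroup.zpowers a).subgroupOf H) = p := by
    rw [Nat.card_congr (Subgroup.subgroupOfEquivOfLe hle).toEquiv, Nat.card_zpowers, ha]
  have hpH : p ∣ Nat.card H := hZ ▸ Subgroup.card_subgroup_dvd_card _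
  obtain ⟨P, hP⟩ := (IsPGroup.of_card (p := p) (n := 1) (by rw [hZ, pow_one])).exists_le_sylow
  have hPcard : Nat.card P = p := by
    rw [P.card_eq_multiplicity]
    have hf : (Nat.card H).factorization p = 1 := by
      refine le_antisymm ?_ ((hp.dvd_iff_one_le_factorization Nat.card_pos.ne').1 hpH)
      by_contra h
      push Not at h
      exact hH (by rw [← pow_two]; exact (hp.pow_dvd_iff_le_factorization Nat.card_pos.ne').2 h)
    rw [hf, pow_one]
  have hPeq : (P : Subgroup H) = (Subgroup.zpowers a).subgroupOf H :=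
    (Subgroup.eq_of_le_of_card_ge hP (by rw [hZ]; exact hPcard.le)).symm
  have hN : (Subgroup.normalizer ((P : Subgroup H) : Set H)).map H.subtype =
      H ⊓ Subgroup.normalizer (Subgroup.zpowers a : Set G) := by
    ext g
    rw [hPeq]
    simp only [Subgroup.mem_map, Subgroup.mem_inf, Subgroup.mem_normalizer_iff]
    constructor
    · rintro ⟨⟨g, hg⟩, hn, rfl⟩
      refine ⟨hg, fun h => ⟨fun hh => ?_, fun hh => ?_⟩⟩
      · exact (Subgroup.mem_subgroupOf.1 ((hn ⟨h, hle hh⟩).1 (Subgroup.mem_subgroupOf.2 hh)))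
      · have hhH : h ∈ H := by
          have := H.mul_mem (H.mul_mem (H.inv_mem hg) (hle hh)) hg
          simpa [mul_assoc] using this
        exact Subgroup.mem_subgroupOf.1 ((hn ⟨h, hhH⟩).2 (Subgroup.mem_subgroupOf.2 hh))
    · rintro ⟨hg, hn⟩
      refine ⟨⟨g, hg⟩, fun h => ?_, rfl⟩
      rw [Subgroup.mem_subgroupOf, Subgroup.mem_subgroupOf]
      exact hn h.1
  have hm : Nat.card ↥(H ⊓ Subgroup.normalizer (Subgroup.zpowers a : Set G)) =
      Nat.card (Subgroup.normalizer ((P : Subgroup H) : Set H)) := by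
    rw [← hN]
    exact (Nat.card_congr
      (Subgroup.equivMapOfInjective _ _ H.subtype_injective).toEquiv).symm
  have hn := Subgroup.index_mul_card (Subgroup.normalizer ((P : Subgroup H) : Set H))
  rw [show (Subgroup.normalizer ((P : Subgroup H) : Set H)).index = Nat.card (Sylow p H) from
    P.card_eq_index_normalizer.symm, ← hm] at hn
  have hmod := card_sylow_modEq_one p H
  have hpos : 0 < Nat.card ↥(H ⊓ Subgroup.normalizer (Subgroup.zpowers a : Set G)) := Nat.card_pos
  refine ⟨?_, Dvd.intro_left _ hn, ?_⟩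
  · have : Subgroup.zpowers a ≤ H ⊓ Subgroup.normalizer (Subgroup.zpowers a : Set G) :=
      le_inf hle Subgroup.le_normalizer
    have h := Subgroup.card_dvd_of_le this
    rwa [Nat.card_zpowers, ha] at h
  · rw [← hn, Nat.mul_div_cancel _ hpos]
    exact Eq.trans hmod (Nat.mod_eq_of_lt hp.one_lt)

/-- A subgroup of order divisible by `p` contains a conjugate of a given element of order `p`. -/
theorem exists_conj_mem {p : ℕ} (hp : p.Prime) {a : G} (ha : orderOf a = p)
    (hG : ¬ p * p ∣ Nat.card G) {H : Subgroup G} (hpH : p ∣ Nat.card H) :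
    ∃ g : G, g * a * g⁻¹ ∈ H := by
  have : Fact p.Prime := ⟨hp⟩
  obtain ⟨b, hb⟩ := exists_prime_orderOf_dvd_card' (G := H) p hpH
  have hcard : ∀ x : G, orderOf x = p → ∃ P : Sylow p G, (P : Subgroup G) = Subgroup.zpowers x := by
    intro x hx
    have hc : Nat.card (Subgroup.zpowers x) = p := by rw [Nat.card_zpowers, hx]
    refine ⟨Sylow.ofCard _ ?_, rfl⟩
    have hpG : p ∣ Nat.card G := hc ▸ Subgroup.card_subgroup_dvd_card _
    have hf : (Nat.card G).factorization p = 1 := by
      refine le_antisymm ?_ ((hp.dvd_iff_one_le_factorization Nat.card_pos.ne').1 hpG)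
      by_contra h
      push Not at h
      exact hG (by rw [← pow_two]; exact (hp.pow_dvd_iff_le_factorization Nat.card_pos.ne').2 h)
    rw [hf, pow_one]
    exact hc
  obtain ⟨P, hP⟩ := hcard a ha
  obtain ⟨Q, hQ⟩ := hcard b.1 (by rw [Subgroup.orderOf_coe, hb])
  obtain ⟨g, hg⟩ := MulAction.exists_smul_eq G P Q
  refine ⟨g, ?_⟩
  have hmem : g * a * g⁻¹ ∈ ((g • P : Sylow p G) : Subgroup G) := by
    rw [Sylow.coe_subgroup_smul, Subgroup.mem_pointwise_smul_iff_inv_smul_mem, hP]
    simp [mul_assoc]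
  rw [hg, hQ] at hmem
  exact Subgroup.zpowers_le.2 b.2 hmem

end CfsgLib.GolayConfig
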