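import Cfsg.Agent.GolayConfig.HomCert
import Cfsg.Agent.GolayConfig.SylowBound
import Cfsg.Agent.SporadicOut.NormEnum

/-!
Certificates for normalisers of subgroups of prime order in subgroups of `M24`.
-/

set_option autoImplicit false

namespace CfsgLib.GolayConfig

open Cfsg CfsgLib.Mathieu CfsgLib.SporadicOut

/-- Powers of a table. -/
def powTab (a : ℕ) : ℕ → ℕ
  | 0 => idTab
  | n + 1 => compTab a (powTab a n)

theorem rep_powTab {σ : Equiv.Perm GolayPt} {a : ℕ} (h : Rep enc σ a) :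
    ∀ n, Rep enc (σ ^ n) (powTab a n)
  | 0 => by rw [pow_zero]; exact rep_idTab
  | n + 1 => by rw [pow_succ']; exact rep_compTab h (rep_powTab h n)

theorem eq_of_tab_eq {σ τ : Equiv.Perm GolayPt} {s t : ℕ} (hσ : Rep enc σ s) (hτ : Rep enc τ t)
    (e : s = t) : σ = τ := rep_unique hσ (e ▸ hτ)

/-- Test that the table has exact order `n`. -/
def hasOrder (a n : ℕ) : Bool :=
  powTab a n == idTab && allBelow n fun m => m == 0 ||
    !(allBelow 24 fun i => app (powTab a m) i == i)

theorem orderOf_of_hasOrder {G : Subgroup (Equiv.Perm GolayPt)} {σ : G} {a n : ℕ} (hn : 0 < n)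
    (hr : Rep enc σ.1 a) (h : hasOrder a n = true) : orderOf σ = n := by
  simp only [hasOrder, Bool.and_eq_true, beq_iff_eq, allBelow_iff, Bool.or_eq_true, Bool.not_eq_true',
    ← Bool.not_eq_true] at h
  refine (orderOf_eq_iff hn).2 ⟨Subtype.ext ?_, fun m hm hm0 e => ?_⟩
  · rw [SubgroupClass.coe_pow]; exact eq_of_tab_eq (rep_powTab hr n) rep_idTab h.1
  · rcases h.2 m hm with h' | h'
    · omega
    · refine h' fun i hi => ?_
      have := rep_powTab hr m (enc.symm ⟨i, hi⟩)
      rw [show (σ.1 ^ m : Equiv.Perm GolayPt) = 1 by rw [← SubgroupClass.coe_pow, e]; rfl] at this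
      simpa using this

/-- Tests for a normaliser list: a search for each exponent. -/
def checkNorm (fixes : List ℕ) (a p : ℕ) (lev : List Level) (Ls : List (List ℕ)) : Bool :=
  levelsOK fixes a lev 0 && Ls.length + 1 == p &&
    allBelow (p - 1) fun i => search a (i + 1) (Ls.getD i []) lev []

variable {G : Subgroup (Equiv.Perm GolayPt)}

/-- The normaliser of the subgroup generated by an element. -/
abbrev normOf (σ : G) : Subgroup G := Subgroup.normalizer (Subgroup.zpowers σ : Set G)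

theorem exists_table_of_normalizer (hG : G ≤ M24) {fixes : List ℕ}
    (hfix : ∀ g ∈ G, ∀ W ∈ fixes, (setOf24 W).image g = setOf24 W ∧ W < 2 ^ 24) {σ : G} {a p : ℕ}
    (hr : Rep enc σ.1 a) (hp : p.Prime) (ho : orderOf σ = p) {lev : List Level} {Ls : List (List ℕ)}
    (h : checkNorm fixes a p lev Ls = true) {g : G} (hg : g ∈ normOf σ) :
    ∃ t ∈ Ls.flatten, Rep enc g.1 t := by
  simp only [checkNorm, Bool.and_eq_true, beq_iff_eq, allBelow_iff] at h
  obtain ⟨⟨hlev, hlen⟩, hsearch⟩ := h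
  obtain ⟨k, hk, hkeq⟩ : ∃ k, k < p ∧ σ ^ k = g * σ * g⁻¹ := by
    have hm := ((Subgroup.mem_normalizer_iff.1 hg) σ).1 (Subgroup.mem_zpowers σ)
    obtain ⟨k, hk⟩ := Subgroup.mem_zpowers_iff.1 hm
    refine ⟨(k % p).toNat, ?_, ?_⟩
    · have := Int.emod_lt_of_pos k (show (0 : ℤ) < p by exact_mod_cast hp.pos)
      omega
    · rw [← hk, ← zpow_natCast, Int.toNat_of_nonneg (Int.emod_nonneg _ (by exact_mod_cast hp.ne_zero)),
        ← ho, zpow_mod_orderOf]
  have hk0 : k ≠ 0 := by
    rintro rfl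
    rw [pow_zero, eq_comm, mul_inv_eq_one, mul_eq_left] at hkeq
    rw [hkeq, orderOf_one] at ho
    exact hp.one_lt.ne ho
  have hgs : g.1 * σ.1 = σ.1 ^ k * g.1 := by
    have : g * σ = σ ^ k * g := by rw [hkeq, inv_mul_cancel_right]
    simpa using congrArg Subtype.val this
  obtain ⟨t, ht, hrt⟩ := search_sound hr hgs (hG g.2) (Ls.getD (k - 1) []) fixes
    (fun W hW => hfix g.1 g.2 W hW) lev [] (by simp [Agrees]) hlev
    (by have := hsearch (k - 1) (by omega); rwa [Nat.sub_add_cancel (by omega)] at this)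
  refine ⟨t, List.mem_flatten.2 ⟨_, ?_, ht⟩, hrt⟩
  rw [List.getD_eq_getElem _ _ (by omega)]
  exact List.getElem_mem _

theorem card_normalizer_le (hG : G ≤ M24) {fixes : List ℕ}
    (hfix : ∀ g ∈ G, ∀ W ∈ fixes, (setOf24 W).image g = setOf24 W ∧ W < 2 ^ 24) {σ : G} {a p : ℕ}
    (hr : Rep enc σ.1 a) (hp : p.Prime) (ho : orderOf σ = p) {lev : List Level} {Ls : List (List ℕ)}
    (h : checkNorm fixes a p lev Ls = true) : Nat.card (normOf σ) ≤ Ls.flatten.length := by
  classical
  choose f hf hfr using fun g : normOf σ => exists_table_of_normalizer hG hfix hr hp ho h g.2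
  refine (Nat.card_le_card_of_injective (β := {t // t ∈ Ls.flatten.toFinset})
    (fun g => ⟨f g, List.mem_toFinset.2 (hf g)⟩) fun g g' e => ?_).trans ?_
  · exact Subtype.ext (Subtype.ext (eq_of_tab_eq (hfr g) (hfr g') (congrArg Subtype.val e)))
  · rw [Nat.card_eq_finsetCard]; exact List.toFinset_card_le _

/-- An element sending the generator to a power normalises. -/
theorem mem_normOf_of_tables {σ τ : G} {a b : ℕ} (hr : Rep enc σ.1 a) (hb : Rep enc τ.1 b) {k : ℕ}
    (h : compTab b a = compTab (powTab a k) b) : τ ∈ normOf σ := by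
  have e : τ * σ = σ ^ k * τ := Subtype.ext (by
    simpa using eq_of_tab_eq (rep_compTab hb hr) (rep_compTab (rep_powTab hr k) hb) h)
  rw [normOf, Subgroup.mem_normalizer_iff]
  have hinj : Function.Injective fun x : Subgroup.zpowers σ => (MulAut.conj τ) x.1 :=
    fun x y e => Subtype.ext ((MulAut.conj τ).injective e)
  have hmap : (Subgroup.zpowers σ).map (MulAut.conj τ).toMonoidHom ≤ Subgroup.zpowers σ := by
    rw [MonoidHom.map_zpowers]
    refine Subgroup.zpowers_le.2 ?_
    show τ * σ * τ⁻¹ ∈ _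
    rw [e, mul_inv_cancel_right]
    exact Subgroup.npow_mem_zpowers σ k
  have heq : (Subgroup.zpowers σ).map (MulAut.conj τ).toMonoidHom = Subgroup.zpowers σ :=
    Subgroup.eq_of_le_of_card_ge hmap (le_of_eq
      (Nat.card_congr (Subgroup.equivMapOfInjective _ _ (MulAut.conj τ).injective).toEquiv))
  intro x
  conv_rhs => rw [← heq]
  constructor
  · exact fun hx => ⟨x, hx, rfl⟩
  · rintro ⟨y, hy, e'⟩
    have e'' : (MulAut.conj τ) y = (MulAut.conj τ) x := e'
    rwa [← (MulAut.conj τ).injective e'']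

/-- Exact normaliser from a certificate: order `p * q` with an element of order `q`. -/
theorem card_normalizer_eq (hG : G ≤ M24) {fixes : List ℕ}
    (hfix : ∀ g ∈ G, ∀ W ∈ fixes, (setOf24 W).image g = setOf24 W ∧ W < 2 ^ 24) {σ τ : G}
    {a b p q k : ℕ} (hr : Rep enc σ.1 a) (hb : Rep enc τ.1 b) (hp : p.Prime) (hq : 0 < q)
    (hpq : Nat.Coprime p q) (ha : hasOrder a p = true) (hbo : hasOrder b q = true)
    (hk : compTab b a = compTab (powTab a k) b) {lev : List Level} {Ls : List (List ℕ)}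
    (h : checkNorm fixes a p lev Ls = true) (hlen : Ls.flatten.length = p * q) :
    orderOf σ = p ∧ orderOf τ = q ∧ Nat.card (normOf σ) = p * q ∧ τ ∈ normOf σ ∧
      normOf σ = Subgroup.closure {σ, τ} := by
  have ho := orderOf_of_hasOrder hp.pos hr ha
  have hoq := orderOf_of_hasOrder hq hb hbo
  have hτ := mem_normOf_of_tables hr hb hk
  have hle : Subgroup.closure {σ, τ} ≤ normOf σ := by
    rw [Subgroup.closure_le]
    rintro x (rfl | rfl)
    · exact Subgroup.le_normalizer (Subgroup.mem_zpowers x)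
    · exact hτ
  have hdvd : p * q ∣ Nat.card (Subgroup.closure ({σ, τ} : Set G)) := by
    refine hpq.mul_dvd_of_dvd_of_dvd ?_ ?_
    · rw [← ho]; exact Subgroup.orderOf_dvd_natCard _ (Subgroup.subset_closure (Set.mem_insert _ _))
    · rw [← hoq]
      exact Subgroup.orderOf_dvd_natCard _ (Subgroup.subset_closure (Set.mem_insert_of_mem _ rfl))
  have hub : Nat.card (normOf σ) ≤ p * q := hlen ▸ card_normalizer_le hG hfix hr hp ho h
  have h1 : p * q ≤ Nat.card (Subgroup.closure ({σ, τ} : Set G)) := Nat.le_of_dvd Nat.card_pos hdvd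
  exact ⟨ho, hoq, le_antisymm hub (h1.trans (Nat.le_of_dvd Nat.card_pos (Subgroup.card_dvd_of_le hle))),
    hτ, (Subgroup.eq_of_le_of_card_ge hle (hub.trans h1)).symm⟩

/-- The constraint on the order of a Sylow normaliser. -/
theorem exists_sylow_number {p N : ℕ} (hp : p.Prime) {σ : G} (ho : orderOf σ = p)
    (hG : ¬ p * p ∣ Nat.card G) (hN : Nat.card (normOf σ) = N) {H : Subgroup G} (hσ : σ ∈ H) :
    ∃ m, m ∣ N ∧ p ∣ m ∧ m ∣ Nat.card H ∧ Nat.card H / m % p = 1 ∧ (m = N → normOf σ ≤ H) := by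
  obtain ⟨h1, h2, h3⟩ := card_inf_normalizer_facts hp ho hG hσ
  refine ⟨_, hN ▸ Subgroup.card_dvd_of_le inf_le_right, h1, h2, h3, fun e => ?_⟩
  have : H ⊓ normOf σ = normOf σ :=
    Subgroup.eq_of_le_of_card_ge inf_le_right (by rw [hN]; exact e.ge)
  exact this ▸ inf_le_left

end CfsgLib.GolayConfig
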