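import Cfsg.Agent.Mathieu.Auto

/-!
Orbit certificates for subgroups of `Cfsg.M24` acting on encoded configurations: points (bit
positions), sets of points (masks) and sets of sets of points (lists of masks).
-/

set_option autoImplicit false

namespace CfsgLib.GolayConfig

open Cfsg CfsgLib.Mathieu
open scoped Pointwise

/-- An encoding of configurations of type `X` by `E`, with the action of packed tables. -/
structure Coding (X : Type) [MulAction (Equiv.Perm GolayPt) X] where
  E : Type
  dec : E → X
  act : ℕ → E → E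
  /-- Boolean test implying equality of the decoded values -/
  same : E → E → Bool
  dec_act : ∀ {σ : Equiv.Perm GolayPt} {t : ℕ}, Rep enc σ t → ∀ x, dec (act t x) = σ • dec x
  dec_same : ∀ {x y}, same x y = true → dec x = dec y

section

variable {X : Type} [MulAction (Equiv.Perm GolayPt) X]

/-- Whether some member of the list codes the same as `y`. -/
def Coding.mem (C : Coding X) (L : List C.E) (y : C.E) : Bool := L.any fun x => C.same x y

/-- The list reached from `L`; each step names the position of a reached object and a table. -/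
def Coding.reach (C : Coding X) (gens : List ℕ) : List (ℕ × ℕ) → List C.E → List C.E
  | [], L => L
  | (i, k) :: rest, L =>
    match L[i]?, gens[k]? with
    | some x, some t => C.reach gens rest (C.act t x :: L)
    | _, _ => L

/-- `y` is obtained from `x` by a member of `H`. -/
def Moves (H : Subgroup (Equiv.Perm GolayPt)) (x y : X) : Prop :=
  ∃ σ ∈ H, σ • x = y

theorem Moves.refl (H : Subgroup (Equiv.Perm GolayPt)) (x : X) : Moves H x x :=
  ⟨1, one_mem H, one_smul _ x⟩

theorem Moves.symm {H : Subgroup (Equiv.Perm GolayPt)} {x y : X} (h : Moves H x y) : Moves H y x := by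
  obtain ⟨σ, hσ, rfl⟩ := h
  exact ⟨σ⁻¹, inv_mem hσ, inv_smul_smul σ x⟩

theorem Moves.trans {H : Subgroup (Equiv.Perm GolayPt)} {x y z : X} (h : Moves H x y)
    (h' : Moves H y z) : Moves H x z := by
  obtain ⟨σ, hσ, rfl⟩ := h
  obtain ⟨τ, hτ, rfl⟩ := h'
  exact ⟨τ * σ, mul_mem hτ hσ, mul_smul τ σ x⟩

theorem Coding.moves_of_reach (C : Coding X) {H : Subgroup (Equiv.Perm GolayPt)} {gens : List ℕ}
    (hg : ∀ t ∈ gens, InGroup enc H t) (x₀ : X) :
    ∀ (steps : List (ℕ × ℕ)) (L : List C.E), (∀ x ∈ L, Moves H x₀ (C.dec x)) →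
      ∀ x ∈ C.reach gens steps L, Moves H x₀ (C.dec x)
  | [], _, h => h
  | (i, k) :: rest, L, h => by
    simp only [Coding.reach]
    split
    · rename_i x t hx ht
      obtain ⟨σ, hσ, rσ⟩ := hg t (List.mem_of_getElem? ht)
      refine C.moves_of_reach hg x₀ rest _ fun y hy => ?_
      rcases List.mem_cons.1 hy with rfl | hy
      · exact (h x (List.mem_of_getElem? hx)).trans ⟨σ, hσ, (C.dec_act rσ x).symm⟩
      · exact h y hy
    · exact h

/-- Every member of `dom` lies in the orbit of `x` under `H`. -/
theorem Coding.moves_of_cert (C : Coding X) {H : Subgroup (Equiv.Perm GolayPt)} {gens : List ℕ}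
    (hg : ∀ t ∈ gens, InGroup enc H t) (x : C.E) (steps : List (ℕ × ℕ)) (dom : List C.E)
    (h : dom.all (C.mem (C.reach gens steps [x])) = true) :
    ∀ y ∈ dom, Moves H (C.dec x) (C.dec y) := by
  intro y hy
  obtain ⟨z, hz, hzy⟩ := List.any_eq_true.1 (List.all_eq_true.1 h y hy)
  rw [← C.dec_same hzy]
  exact C.moves_of_reach hg _ steps [x]
    (fun w hw => by rw [List.mem_singleton.1 hw]; exact Moves.refl H _) z hz

/-- Members of `dom` pairwise differ (as tested on the codes). -/
def Coding.distinct (C : Coding X) : List C.E → Bool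
  | [] => true
  | x :: L => L.all (fun y => !C.same x y) && C.distinct L

end

/-! ### Codings -/

/-- Points, as bit positions. -/
@[reducible] def ptCoding : Coding GolayPt where
  E := ℕ
  dec := pt
  act t i := app t (idx (pt i))
  same i j := i == j
  dec_act {σ t} h i := by
    have := h (pt i)
    change app t (idx (pt i)) = idx (σ (pt i)) at this
    rw [this, pt_idx]; rfl
  dec_same h := by rw [beq_iff_eq.1 h]

theorem image_eq_smul (σ : Equiv.Perm GolayPt) (s : Finset GolayPt) : s.image σ = σ • s := rfl

/-- Sets of points, as masks. -/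
@[reducible] def setCoding : Coding (Finset GolayPt) where
  E := ℕ
  dec := setOf24
  act t M := push t 24 M
  same M N := M == N
  dec_act {σ t} h M := (image_setOf24 h M).symm
  dec_same h := by rw [beq_iff_eq.1 h]

/-- Sets of sets of points, as lists of masks. -/
@[reducible] def famCoding : Coding (Finset (Finset GolayPt)) where
  E := List ℕ
  dec L := (L.map setOf24).toFinset
  act t L := L.map fun M => push t 24 M
  same L L' := L.all (fun M => L'.contains M) && L'.all (fun M => L.contains M)
  dec_act {σ t} h L := by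
    ext s
    simp only [List.mem_toFinset, List.map_map, List.mem_map, Function.comp_apply,
      Finset.mem_smul_finset]
    constructor
    · rintro ⟨M, hM, rfl⟩
      exact ⟨setOf24 M, ⟨M, hM, rfl⟩, (image_setOf24 h M)⟩
    · rintro ⟨_, ⟨M, hM, rfl⟩, rfl⟩
      exact ⟨M, hM, (image_setOf24 h M).symm⟩
  dec_same {L L'} h := by
    simp only [Bool.and_eq_true, List.all_eq_true, List.contains_iff_mem] at h
    ext s
    simp only [List.mem_toFinset, List.mem_map]
    exact ⟨fun ⟨M, hM, e⟩ => ⟨M, h.1 M hM, e⟩, fun ⟨M, hM, e⟩ => ⟨M, h.2 M hM, e⟩⟩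

/-! ### Tables in `M24` -/

/-- A table of a bijection preserving the code. -/
def isM24 (t : ℕ) : Bool :=
  allBelow 24 (fun i => Nat.blt (app t i) 24) &&
    allBelow 24 (fun i => allBelow 24 fun j => !(app t i == app t j) || i == j) && preservesCode t

theorem exists_perm {t : ℕ} (h : isM24 t = true) : ∃ σ ∈ M24, Rep enc σ t := by
  simp only [isM24, Bool.and_eq_true, allBelow_iff, Nat.blt_eq, Bool.or_eq_true, Bool.not_eq_true',
    beq_iff_eq, beq_eq_false_iff_ne] at h
  obtain ⟨⟨hlt, hinj⟩, hc⟩ := h
  have hf : Function.Injective fun p : GolayPt => pt (app t (idx p)) := by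
    intro a b hab
    have e := congrArg idx hab
    simp only [idx_pt (hlt _ (idx_lt a)), idx_pt (hlt _ (idx_lt b))] at e
    rcases hinj _ (idx_lt a) _ (idx_lt b) with h' | h'
    · exact absurd e h'
    · exact idx_injective h'
  have hrep : Rep enc (Equiv.ofBijective _ (Finite.injective_iff_bijective.1 hf)) t := fun p =>
    (idx_pt (hlt _ (idx_lt p))).symm
  exact ⟨_, mem_M24_of_table hrep hc, hrep⟩

/-- Tables in `M24` fixing the given configurations lie in the subgroup they cut out. -/
theorem inGroup_inf {H : Subgroup (Equiv.Perm GolayPt)} {X : Type}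
    [MulAction (Equiv.Perm GolayPt) X] (C : Coding X) (x : C.E) {t : ℕ}
    (ht : InGroup enc H t) (hx : C.same (C.act t x) x = true) :
    InGroup enc (H ⊓ MulAction.stabilizer (Equiv.Perm GolayPt) (C.dec x)) t := by
  obtain ⟨σ, hσ, rσ⟩ := ht
  exact ⟨σ, ⟨hσ, (C.dec_act rσ x).symm.trans (C.dec_same hx)⟩, rσ⟩

theorem inGroup_M24 {t : ℕ} (h : isM24 t = true) : InGroup enc M24 t := by
  obtain ⟨σ, hσ, rσ⟩ := exists_perm h
  exact ⟨σ, hσ, rσ⟩

end CfsgLib.GolayConfig
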