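import Cfsg.Agent.GolayConfig.HomCert

/-!
Coded targets for homomorphism certificates: 2 × 2 matrices, PSL(2, 11), maps of five letters.
-/

set_option autoImplicit false

namespace CfsgLib.GolayConfig

open Cfsg CfsgLib.Mathieu

/-- Quadruples `(a, b, c, d)` for the matrix with rows `(a, b)`, `(c, d)`. -/
abbrev Quad (R : Type) : Type := R × R × R × R

/-- Product of quadruples. -/
def quadMul {R : Type} [CommRing R] (x y : Quad R) : Quad R :=
  (x.1 * y.1 + x.2.1 * y.2.2.1, x.1 * y.2.1 + x.2.1 * y.2.2.2,
    x.2.2.1 * y.1 + x.2.2.2 * y.2.2.1, x.2.2.1 * y.2.1 + x.2.2.2 * y.2.2.2)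

/-- The matrix of a quadruple. -/
def quadMat {R : Type} [CommRing R] (x : Quad R) : Matrix (Fin 2) (Fin 2) R :=
  !![x.1, x.2.1; x.2.2.1, x.2.2.2]

theorem quadMat_mul {R : Type} [CommRing R] (x y : Quad R) :
    quadMat (quadMul x y) = quadMat x * quadMat y := by
  simp [quadMat, quadMul]

theorem quadMat_one {R : Type} [CommRing R] :
    quadMat ((1, 0, 0, 1) : Quad R) = (1 : Matrix (Fin 2) (Fin 2) R) := by
  simp [quadMat, Matrix.one_fin_two]

/-- All 2 × 2 matrices over `ZMod 3`. -/
@[reducible] def matTarget : Target (Matrix (Fin 2) (Fin 2) (ZMod 3)) where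
  E := Quad (ZMod 3)
  one := (1, 0, 0, 1)
  mul := quadMul
  valid _ := true
  same x y := decide (x = y)
  dec := quadMat
  valid_one := rfl
  valid_mul _ _ := rfl
  dec_one := quadMat_one
  dec_mul _ _ := quadMat_mul _ _
  dec_same h := by rw [of_decide_eq_true h]

/-- SL(2, 11). -/
abbrev SL11 : Type := Matrix.SpecialLinearGroup (Fin 2) (ZMod 11)

/-- PSL(2, 11). -/
abbrev PSL11 : Type := Matrix.ProjectiveSpecialLinearGroup (Fin 2) (ZMod 11)

/-- Determinant of a quadruple. -/
def quadDet (x : Quad (ZMod 11)) : ZMod 11 := x.1 * x.2.2.2 - x.2.1 * x.2.2.1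

theorem det_quadMat (x : Quad (ZMod 11)) : (quadMat x).det = quadDet x := by
  simp [quadMat, quadDet, Matrix.det_fin_two]

/-- The element of SL(2, 11) of a quadruple of determinant one. -/
def slOf (x : Quad (ZMod 11)) (h : quadDet x = 1) : SL11 := ⟨quadMat x, (det_quadMat x).trans h⟩

theorem coe_slOf (x : Quad (ZMod 11)) (h : quadDet x = 1) :
    (slOf x h : Matrix (Fin 2) (Fin 2) (ZMod 11)) = quadMat x := rfl

/-- The class in PSL(2, 11) of a quadruple of determinant one. -/
def pslDec (x : Quad (ZMod 11)) : PSL11 :=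
  if h : quadDet x = 1 then QuotientGroup.mk (slOf x h) else 1

theorem pslDec_of_det {x : Quad (ZMod 11)} (h : quadDet x = 1) :
    pslDec x = QuotientGroup.mk (slOf x h) := dif_pos h

theorem quadDet_mul (x y : Quad (ZMod 11)) : quadDet (quadMul x y) = quadDet x * quadDet y := by
  simp only [quadDet, quadMul]; ring

/-- Negation of a quadruple. -/
def quadNeg (x : Quad (ZMod 11)) : Quad (ZMod 11) := (-x.1, -x.2.1, -x.2.2.1, -x.2.2.2)

theorem pslDec_neg (x : Quad (ZMod 11)) : pslDec (quadNeg x) = pslDec x := by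
  have hd : quadDet (quadNeg x) = quadDet x := by simp [quadDet, quadNeg]
  by_cases h : quadDet x = 1
  · rw [pslDec_of_det h, pslDec_of_det (hd.trans h)]
    rw [QuotientGroup.eq]
    let z : SL11 := ⟨-1, by rw [Matrix.det_neg]; simp⟩
    have hz : z ∈ Subgroup.center SL11 := by
      rw [Subgroup.mem_center_iff]
      intro g
      refine Subtype.ext ?_
      rw [Matrix.SpecialLinearGroup.coe_mul, Matrix.SpecialLinearGroup.coe_mul]
      show (g : Matrix (Fin 2) (Fin 2) (ZMod 11)) * (-1) = -1 * g
      simp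
    refine (congrArg (· ∈ Subgroup.center SL11) ?_).mpr hz
    rw [inv_mul_eq_iff_eq_mul]
    refine Subtype.ext ?_
    rw [Matrix.SpecialLinearGroup.coe_mul, coe_slOf, coe_slOf]
    show quadMat x = quadMat (quadNeg x) * (-1)
    simp [quadMat, quadNeg]
  · rw [pslDec, pslDec, dif_neg h, dif_neg (fun h' => h (hd.symm.trans h'))]

/-- PSL(2, 11) on quadruples up to sign. -/
@[reducible] def pslTarget : Target PSL11 where
  E := Quad (ZMod 11)
  one := (1, 0, 0, 1)
  mul := quadMul
  valid x := decide (quadDet x = 1)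
  same x y := decide (x = y) || decide (quadNeg x = y)
  dec := pslDec
  valid_one := by decide
  valid_mul hx hy := by
    rw [decide_eq_true_eq] at hx hy ⊢
    rw [quadDet_mul, hx, hy, one_mul]
  dec_one := by
    rw [pslDec_of_det (by decide)]
    exact congrArg QuotientGroup.mk (Subtype.ext quadMat_one : slOf (1, 0, 0, 1) (by decide) = 1)
  dec_mul {x y} hx hy := by
    rw [decide_eq_true_eq] at hx hy
    rw [pslDec_of_det hx, pslDec_of_det hy,
      pslDec_of_det (by rw [quadDet_mul, hx, hy, one_mul]), ← QuotientGroup.mk_mul]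
    exact congrArg QuotientGroup.mk (Subtype.ext (quadMat_mul x y) : slOf (quadMul x y) _ = slOf x hx * slOf y hy)
  dec_same {x y} h := by
    rw [Bool.or_eq_true, decide_eq_true_eq, decide_eq_true_eq] at h
    rcases h with rfl | rfl
    · rfl
    · exact (pslDec_neg x).symm

/-- Composition of packed maps of five letters. -/
def comp5 (a b : ℕ) : ℕ := (List.range 5).foldr (fun i acc => acc * 256 + app a (app b i)) 0

/-- Maps of five letters, packed. -/
@[reducible] def fiveTarget : Target (Function.End (Fin 5)) where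
  E := ℕ
  one := (List.range 5).foldr (fun i acc => acc * 256 + i) 0
  mul := comp5
  valid a := allBelow 5 fun i => Nat.blt (app a i) 5
  same a b := allBelow 5 fun i => app a i == app b i
  dec a i := (⟨app a i.val % 5, Nat.mod_lt _ (by norm_num)⟩ : Fin 5)
  valid_one := by decide
  valid_mul {a b} ha hb := by
    simp only [allBelow_iff, Nat.blt_eq] at ha hb ⊢
    intro i hi
    rw [comp5, foldr_app_lt (fun i => app a (app b i)) 5 (fun j _ => Nat.mod_lt _ (by norm_num)) 0 i hi]
    exact ha _ (hb i hi)
  dec_one := by funext i; fin_cases i <;> rfl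
  dec_mul {a b} ha hb := by
    simp only [allBelow_iff, Nat.blt_eq] at ha hb
    funext i
    refine Fin.ext ?_
    show app (comp5 a b) i.val % 5 = app a (app b i.val % 5) % 5
    rw [comp5, foldr_app_lt (fun i => app a (app b i)) 5 (fun j _ => Nat.mod_lt _ (by norm_num)) 0 i
      i.isLt, Nat.mod_eq_of_lt (hb i i.isLt)]
  dec_same {a b} h := by
    simp only [allBelow_iff, beq_iff_eq] at h
    funext i
    refine Fin.ext ?_
    show app a i.val % 5 = app b i.val % 5
    rw [h i i.isLt]

end CfsgLib.GolayConfig
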