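import Cfsg.Agent.GolayConfig.Stabilisers
import Cfsg.Agent.GolayConfig.SmallTargets
import Cfsg.Agent.GolayConfig.HomData

/-!
A point and a pair outside the dodecad: PSL(2, 11) and the symmetric group of degree five.
-/

set_option autoImplicit false

namespace CfsgLib.GolayConfig

open Cfsg CfsgLib.Mathieu
open scoped Pointwise

/-- The stabiliser of an outside point. -/
def HL : Subgroup (Equiv.Perm GolayPt) := cut H11 ptCoding (23 : ℕ)

/-- The stabiliser of an outside pair. -/
def HS : Subgroup (Equiv.Perm GolayPt) := cut H11 setCoding cOut2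

theorem gensHL : ∀ t ∈ gL11, InGroup enc HL t :=
  inGroup_of_checks (inGroup_of_checks (inGroup_of_checks (inGroup_of_isM24 (by decide +kernel))
    (by decide +kernel)) (by decide +kernel)) (by decide +kernel)

theorem gensHS : ∀ t ∈ gS5, InGroup enc HS t :=
  inGroup_of_checks (inGroup_of_checks (inGroup_of_checks (inGroup_of_isM24 (by decide +kernel))
    (by decide +kernel)) (by decide +kernel)) (by decide +kernel)

/-- Upper unitriangular. -/
def upQ (t : ZMod 11) : Quad (ZMod 11) := (1, t, 0, 1)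

/-- Lower unitriangular. -/
def loQ (t : ZMod 11) : Quad (ZMod 11) := (1, 0, t, 1)

theorem det_upQ (t : ZMod 11) : quadDet (upQ t) = 1 := by simp [quadDet, upQ]

theorem det_loQ (t : ZMod 11) : quadDet (loQ t) = 1 := by simp [quadDet, loQ]

theorem sl_mem_of_elementary (H : Subgroup SL11)
    (hu : ∀ t, slOf (upQ t) (det_upQ t) ∈ H) (hl : ∀ t, slOf (loQ t) (det_loQ t) ∈ H) (s : SL11) :
    s ∈ H := by
  have : Fact (Nat.Prime 11) := ⟨by norm_num⟩
  have main : ∀ s : SL11, s.1 1 0 ≠ 0 → s ∈ H := by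
    intro s hc
    have hdet : s.1 0 0 * s.1 1 1 - s.1 0 1 * s.1 1 0 = 1 := by
      rw [← Matrix.det_fin_two]; exact s.2
    have e : s = slOf (upQ ((s.1 0 0 - 1) * (s.1 1 0)⁻¹)) (det_upQ _) *
        slOf (loQ (s.1 1 0)) (det_loQ _) *
        slOf (upQ ((s.1 1 1 - 1) * (s.1 1 0)⁻¹)) (det_upQ _) := by
      refine Subtype.ext ?_
      rw [Matrix.SpecialLinearGroup.coe_mul, Matrix.SpecialLinearGroup.coe_mul, coe_slOf, coe_slOf,
        coe_slOf, Matrix.eta_fin_two s.1]
      simp only [quadMat, upQ, loQ, Matrix.mul_fin_two]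
      ext i j
      fin_cases i <;> fin_cases j <;>
        simp only [Fin.mk_zero, Fin.mk_one, Matrix.of_apply, Matrix.cons_val_zero,
          Matrix.cons_val_one, Matrix.cons_val', Matrix.empty_val', Matrix.cons_val_fin_one] <;>
        field_simp <;> first | ring1 | (linear_combination -hdet)
    rw [e]
    exact H.mul_mem (H.mul_mem (hu _) (hl _)) (hu _)
  by_cases hc : s.1 1 0 = 0
  · have h' : (s * slOf (loQ 1) (det_loQ 1)).1 1 0 ≠ 0 := by
      have hdet : s.1 0 0 * s.1 1 1 - s.1 0 1 * s.1 1 0 = 1 := by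
        rw [← Matrix.det_fin_two]; exact s.2
      rw [Matrix.SpecialLinearGroup.coe_mul, coe_slOf, Matrix.mul_apply, Fin.sum_univ_two]
      simp only [quadMat, loQ, Matrix.of_apply, Matrix.cons_val_zero, Matrix.cons_val_one]
      intro h
      simp only [hc, zero_add, mul_one, mul_zero, sub_zero] at h hdet
      rw [h, mul_zero] at hdet
      exact zero_ne_one hdet
    exact (H.mul_mem_cancel_right (hl 1)).1 (main _ h')
  · exact main s hc

/-- The elements built for PSL(2, 11). -/
def listHL : List (ℕ × Quad (ZMod 11)) := pslTarget.build gensL11 stepsL11 [(idTab, pslTarget.one)]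

theorem listHL_up : ∀ t : ZMod 11, (listHL.any fun r => pslTarget.same r.2 (upQ t)) = true := by
  decide +kernel

theorem listHL_lo : ∀ t : ZMod 11, (listHL.any fun r => pslTarget.same r.2 (loQ t)) = true := by
  decide +kernel

theorem listHL_scalar : listHL.all (fun r =>
      decide (quadDet r.2 = 1) &&
        (!(decide (r.2.2.1 = 0) && decide (r.2.2.2.1 = 0) && decide (r.2.1 = r.2.2.2.2)) ||
          r.1 == idTab)) = true := by decide +kernel

theorem listHL_length : 660 ≤ listHL.length := by decide +kernel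

theorem checkHL : pslTarget.checkGraph gensL11 stepsL11 [nextL110, nextL111] modL11 = true := by
  decide +kernel

theorem exists_HL_iso : Nonempty (↥HL ≃* PSL11) := by
  obtain ⟨φ, hφ, hcov⟩ := pslTarget.exists_hom (K := HL) (gens := gensL11)
    (fun g hg => gensHL g.1 ((by decide +kernel : ∀ t ∈ gensL11.map Prod.fst, t ∈ gL11) g.1
      (List.mem_map_of_mem hg))) stepsL11 [nextL110, nextL111] modL11 checkHL
    (by rw [show Nat.card HL = 660 from card_H11out]; exact listHL_length)
  have hT : ∀ x : Quad (ZMod 11), (listHL.any fun r => pslTarget.same r.2 x) = true → pslDec x ∈ φ.range := by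
    intro x hx
    obtain ⟨r, hr, he⟩ := List.any_eq_true.1 hx
    obtain ⟨σ, -, hσ⟩ := hφ r hr
    exact ⟨σ, hσ.trans (pslTarget.dec_same he)⟩
  have hu := listHL_up
  have hl := listHL_lo
  have hsurj : Function.Surjective φ := by
    intro y
    induction y using QuotientGroup.induction_on with
    | H s =>
      refine sl_mem_of_elementary (φ.range.comap (QuotientGroup.mk' _)) (fun t => ?_) (fun t => ?_) s
      · have := hT _ (hu t); rwa [pslDec_of_det (det_upQ t)] at this
      · have := hT _ (hl t); rwa [pslDec_of_det (det_loQ t)] at this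
  refine ⟨MulEquiv.ofBijective φ ⟨(injective_iff_map_eq_one φ).2 fun σ hσ => ?_, hsurj⟩⟩
  obtain ⟨r, hr, hrep, he⟩ := hcov σ
  have hk := List.all_eq_true.1 listHL_scalar r hr
  simp only [Bool.and_eq_true, Bool.or_eq_true, decide_eq_true_eq, Bool.not_eq_true', beq_iff_eq]
    at hk
  have hc : slOf r.2 hk.1 ∈ Subgroup.center SL11 := by
    rw [← QuotientGroup.eq_one_iff, ← pslDec_of_det hk.1]
    exact he.symm.trans hσ
  rw [Subgroup.mem_center_iff] at hc
  have c1 := congrArg Subtype.val (hc (slOf (upQ 1) (det_upQ 1)))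
  have c2 := congrArg Subtype.val (hc (slOf (loQ 1) (det_loQ 1)))
  simp only [Matrix.SpecialLinearGroup.coe_mul, coe_slOf, ← quadMat_mul] at c1 c2
  have a1 := congrFun (congrFun c1 0) 0
  have a2 := congrFun (congrFun c2 0) 0
  have a3 := congrFun (congrFun c1 0) 1
  simp [quadMat, quadMul, upQ, loQ] at a1 a2 a3
  rcases hk.2 with h | h
  · exfalso
    simp [a1, a2] at h
    grind
  · refine Subtype.ext ?_
    exact rep_unique hrep (h ▸ rep_idTab)

theorem exists_HS_iso : Nonempty (↥HS ≃* Equiv.Perm (Fin 5)) := by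
  obtain ⟨φ, -, hcov⟩ := fiveTarget.exists_hom (K := HS) (gens := gensS5)
    (fun g hg => gensHS g.1 ((by decide +kernel : ∀ t ∈ gensS5.map Prod.fst, t ∈ gS5) g.1
      (List.mem_map_of_mem hg))) stepsS5 [nextS50, nextS51] modS5 (by decide +kernel)
    (by
      rw [show Nat.card HS = 120 from card_H11pair]
      exact (show (120 ≤ (fiveTarget.build gensS5 stepsS5 [(idTab, fiveTarget.one)]).length) from
        (by decide +kernel)))
  let ψ : ↥HS →* Equiv.Perm (Fin 5) :=
    Equiv.Perm.equivUnitsEnd.symm.toMonoidHom.comp φ.toHomUnits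
  have hinj : Function.Injective ψ := by
    refine (injective_iff_map_eq_one ψ).2 fun σ hσ => ?_
    have h1 : φ σ = 1 := by
      have h := congrArg Equiv.Perm.equivUnitsEnd hσ
      rw [map_one] at h
      have h2 := congrArg Units.val h
      simpa [ψ] using h2
    obtain ⟨r, hr, hrep, he⟩ := hcov σ
    have key : (fiveTarget.build gensS5 stepsS5 [(idTab, fiveTarget.one)]).all (fun r =>
        !(allBelow 5 fun i => app r.2 i % 5 == i) || r.1 == idTab) = true := by decide +kernel
    have hk := List.all_eq_true.1 key r hr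
    have hid : allBelow 5 (fun i => app r.2 i % 5 == i) = true := by
      rw [allBelow_iff]
      intro i hi
      exact beq_iff_eq.2 (congrArg Fin.val (congrFun (he.symm.trans h1) ⟨i, hi⟩))
    rw [hid, Bool.not_true, Bool.false_or, beq_iff_eq] at hk
    exact Subtype.ext (rep_unique hrep (hk ▸ rep_idTab))
  refine ⟨MulEquiv.ofBijective ψ ((Nat.bijective_iff_injective_and_card ψ).2 ⟨hinj, ?_⟩)⟩
  rw [show Nat.card HS = 120 from card_H11pair, Nat.card_perm, Nat.card_eq_fintype_card,
    Fintype.card_fin]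
  rfl

theorem out_conj_mem {X : Type} [MulAction (Equiv.Perm GolayPt) X] (C : Coding X) (x : C.E)
    {σ : Equiv.Perm GolayPt} (hσ : σ ∈ M24) {d : Finset GolayPt} {p : GolayPt} {y : X}
    (hd : σ • setOf24 cD = d) (hp : σ (pt 0) = p) (hy : σ • C.dec x = y) (g : ↥M24) :
    ((g ∈ MulAction.stabilizer M24 d ∧ g ∈ MulAction.stabilizer M24 p) ∧
        (g : Equiv.Perm GolayPt) • y = y) ↔
      σ⁻¹ * (g : Equiv.Perm GolayPt) * σ ∈ cut H11 C x := by
  constructor
  · rintro ⟨⟨h1, h2⟩, h3⟩
    exact ⟨⟨⟨M24.mul_mem (M24.mul_mem (M24.inv_mem hσ) g.2) hσ, (stab_conj_iff hd).2 h1⟩,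
      (stab_conj_iff (x := pt 0) hp).2 h2⟩, (stab_conj_iff hy).2 h3⟩
  · rintro ⟨⟨⟨-, h1⟩, h2⟩, h3⟩
    exact ⟨⟨(stab_conj_iff hd).1 h1, (stab_conj_iff (x := pt 0) hp).1 h2⟩,
      (stab_conj_iff hy).1 h3⟩

end CfsgLib.GolayConfig
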