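import Cfsg.Agent.GolayConfig.SylowM23
import Cfsg.Agent.Mathieu.M24Actions

/-!
The projective special linear group of the line with 24 points and its point stabiliser.
-/

set_option autoImplicit false

namespace CfsgLib.GolayConfig

open Cfsg CfsgLib.Mathieu CfsgLib.SporadicOut CfsgLib.Schur.Pc

/-- Translation by one. -/
def shift23 : Equiv.Perm GolayPt := Equiv.optionCongr (Equiv.addRight (1 : ZMod 23))

/-- Multiplication by a unit. -/
def mul23 (u : (ZMod 23)ˣ) : Equiv.Perm GolayPt := Equiv.optionCongr (Units.mulLeft u)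

/-- Generators of the stabiliser of infinity. -/
def borelGens : Set (Equiv.Perm GolayPt) :=
  {shift23} ∪ {g | ∃ u : (ZMod 23)ˣ, IsSquare u ∧ g = mul23 u}

/-- Generators of the whole group. -/
def pslGens : Set (Equiv.Perm GolayPt) :=
  {shift23, projInv} ∪ {g | ∃ u : (ZMod 23)ˣ, IsSquare u ∧ g = mul23 u}

/-- The table of a permutation. -/
def tabOf (σ : Equiv.Perm GolayPt) : ℕ :=
  (List.range 24).foldr (fun i acc => acc * 256 + idx (σ (pt i))) 0

theorem rep_tabOf (σ : Equiv.Perm GolayPt) : Rep CfsgLib.Mathieu.enc σ (tabOf σ) := by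
  intro p
  have h := foldr_app_lt (fun i => idx (σ (pt i))) 24
    (fun i _ => (idx_lt (σ (pt i))).trans (by norm_num)) 0 (CfsgLib.Mathieu.enc p).val (idx_lt p)
  rw [tabOf, h]
  show idx (σ (pt (idx p))) = idx (σ p)
  rw [pt_idx]

theorem shift23_mem : shift23 ∈ Spor.M23 :=
  mem_of_inGroup (rep_tabOf shift23) (inGroup_of_inM23 (by decide +kernel))
where
  mem_of_inGroup {σ : Equiv.Perm GolayPt} {t : ℕ} {G : Subgroup (Equiv.Perm GolayPt)}
      (h : Rep CfsgLib.Mathieu.enc σ t) (h' : InGroup CfsgLib.Mathieu.enc G t) : σ ∈ G := by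
    obtain ⟨τ, hτ, r⟩ := h'
    rwa [rep_unique h r]

/-- Translation as a member of the group of degree 23. -/
def sigma23 : Spor.M23 := ⟨shift23, shift23_mem⟩

theorem order_sigma23 : orderOf sigma23 = 23 ∧ Nat.card (normOf sigma23) = 253 := by
  obtain ⟨σ, τ, hσ, ho, hN, -⟩ := m23_norm23
  have e : sigma23 = σ := Subtype.ext
    (eq_of_tab_eq (rep_tabOf shift23) hσ (by decide +kernel))
  rw [e]
  exact ⟨ho, hN⟩

/-- The normaliser, inside the symmetric group. -/
def borel23 : Subgroup (Equiv.Perm GolayPt) := (normOf sigma23).map Spor.M23.subtype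

theorem card_borel23 : Nat.card borel23 = 253 :=
  (Nat.card_congr (Subgroup.equivMapOfInjective _ _ Spor.M23.subtype_injective).toEquiv).symm.trans
    order_sigma23.2

/-- Test for membership of the normaliser. -/
def inBorel (t : ℕ) : Bool :=
  inM23 t && ((List.range 23).any fun k =>
    compTab t (tabOf shift23) == compTab (powTab (tabOf shift23) k) t)

theorem mem_borel23_of_test {σ : Equiv.Perm GolayPt} (h : inBorel (tabOf σ) = true) : σ ∈ borel23 := by
  simp only [inBorel, Bool.and_eq_true, List.any_eq_true, beq_iff_eq] at h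
  obtain ⟨h1, k, -, h2⟩ := h
  have hσ : σ ∈ Spor.M23 := shift23_mem.mem_of_inGroup (rep_tabOf σ) (inGroup_of_inM23 h1)
  exact ⟨⟨σ, hσ⟩, mem_normOf_of_tables (σ := sigma23) (τ := ⟨σ, hσ⟩) (rep_tabOf shift23)
    (rep_tabOf σ) h2, rfl⟩

theorem mul23_borel : ∀ u : (ZMod 23)ˣ, IsSquare u → inBorel (tabOf (mul23 u)) = true := by
  decide +kernel

theorem borel_closure : Subgroup.closure borelGens = borel23 := by
  have hle : Subgroup.closure borelGens ≤ borel23 := by
    rw [Subgroup.closure_le]
    rintro g (rfl | ⟨u, hu, rfl⟩)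
    · exact mem_borel23_of_test (by decide +kernel)
    · exact mem_borel23_of_test (mul23_borel u hu)
  have h23 : 23 ∣ Nat.card (Subgroup.closure borelGens) := by
    have hm : shift23 ∈ Subgroup.closure borelGens := Subgroup.subset_closure (Or.inl rfl)
    have ho : orderOf shift23 = 23 := by
      rw [← order_sigma23.1, sigma23, Subgroup.orderOf_mk]
    exact ho ▸ Subgroup.orderOf_dvd_natCard _ hm
  have h11 : 11 ∣ Nat.card (Subgroup.closure borelGens) := by
    have : Fact (Nat.Prime 11) := ⟨by norm_num⟩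
    let u : (ZMod 23)ˣ := ⟨2, 12, by decide, by decide⟩
    have hm : mul23 u ∈ Subgroup.closure borelGens :=
      Subgroup.subset_closure (Or.inr ⟨u, ⟨⟨5, 14, by decide, by decide⟩, by decide⟩, rfl⟩)
    have ho : orderOf (mul23 u) = 11 :=
      orderOf_eq_prime (by decide +kernel) (by decide +kernel)
    exact ho ▸ Subgroup.orderOf_dvd_natCard _ hm
  have h253 : 253 ≤ Nat.card (Subgroup.closure borelGens) :=
    Nat.le_of_dvd Nat.card_pos (Nat.Coprime.mul_dvd_of_dvd_of_dvd (by norm_num) h23 h11 :
      23 * 11 ∣ Nat.card (Subgroup.closure borelGens))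
  exact Subgroup.eq_of_le_of_card_ge hle (card_borel23 ▸ h253)

/-- A representative of each point. -/
def toPt : GolayPt → Equiv.Perm GolayPt
  | none => 1
  | some q => shift23 ^ q.val * projInv

theorem toPt_none : ∀ q : GolayPt, toPt q none = q := by decide +kernel

/-- The group of the line. -/
def psl23 : Subgroup (Equiv.Perm GolayPt) := Subgroup.closure pslGens

theorem shift23_psl : shift23 ∈ psl23 := Subgroup.subset_closure (Or.inl (Or.inl rfl))

theorem toPt_psl : ∀ q : GolayPt, toPt q ∈ psl23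
  | none => one_mem _
  | some _ => mul_mem (pow_mem shift23_psl _) (Subgroup.subset_closure (Or.inl (Or.inr rfl)))

theorem borel_le_psl : borel23 ≤ psl23 := by
  rw [← borel_closure]
  refine Subgroup.closure_mono ?_
  rintro g (rfl | h)
  · exact Or.inl (Or.inl rfl)
  · exact Or.inr h

theorem schreier_gens : ∀ q : GolayPt,
    (inBorel (tabOf ((toPt (shift23 q))⁻¹ * shift23 * toPt q)) &&
      inBorel (tabOf ((toPt (projInv q))⁻¹ * projInv * toPt q))) = true := by decide +kernel

theorem schreier_mul : ∀ u : (ZMod 23)ˣ, IsSquare u → ∀ q : GolayPt,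
    inBorel (tabOf ((toPt (mul23 u q))⁻¹ * mul23 u * toPt q)) = true := by decide +kernel

theorem borel_none {σ : Equiv.Perm GolayPt} (h : σ ∈ borel23) : σ none = none := by
  obtain ⟨g, -, rfl⟩ := h
  exact (mem_SporM23.1 g.2).2

theorem psl23_decomp {σ : Equiv.Perm GolayPt} (h : σ ∈ psl23) :
    (toPt (σ none))⁻¹ * σ ∈ borel23 := by
  let S : Submonoid (Equiv.Perm GolayPt) :=
    { carrier := {σ | ∀ q, (toPt (σ q))⁻¹ * σ * toPt q ∈ borel23}
      mul_mem' := fun {a b} ha hb q => by
        rw [Equiv.Perm.mul_apply,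
          show (toPt (a (b q)))⁻¹ * (a * b) * toPt q =
            ((toPt (a (b q)))⁻¹ * a * toPt (b q)) * ((toPt (b q))⁻¹ * b * toPt q) by group]
        exact mul_mem (ha (b q)) (hb q)
      one_mem' := fun q => by simp }
  have hS : psl23.toSubmonoid ≤ S := by
    rw [psl23, Subgroup.closure_toSubmonoid_of_finite, Submonoid.closure_le]
    intro g hg q
    rcases hg with (rfl | rfl) | ⟨u, hu, rfl⟩
    · exact mem_borel23_of_test (Bool.and_eq_true _ _ ▸ schreier_gens q).1
    · exact mem_borel23_of_test (Bool.and_eq_true _ _ ▸ schreier_gens q).2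
    · exact mem_borel23_of_test (schreier_mul u hu q)
  have := hS h none
  simpa [toPt] using this

theorem card_psl23 : Nat.card psl23 = 6072 := by
  let f : GolayPt × borel23 → psl23 := fun x =>
    ⟨toPt x.1 * x.2.1, mul_mem (toPt_psl x.1) (borel_le_psl x.2.2)⟩
  have hf : Function.Bijective f := by
    refine ⟨fun x y e => ?_, fun σ => ⟨(σ.1 none, ⟨_, psl23_decomp σ.2⟩),
      Subtype.ext (mul_inv_cancel_left _ _)⟩⟩
    have e' : toPt x.1 * x.2.1 = toPt y.1 * y.2.1 := congrArg Subtype.val e
    have h1 : x.1 = y.1 := by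
      have := congrFun (congrArg DFunLike.coe e') none
      rwa [Equiv.Perm.mul_apply, Equiv.Perm.mul_apply, borel_none x.2.2, borel_none y.2.2, toPt_none,
        toPt_none] at this
    rw [h1] at e'
    exact Prod.ext h1 (Subtype.ext (mul_left_cancel e'))
  rw [← Nat.card_congr (Equiv.ofBijective f hf), Nat.card_prod, card_borel23, Nat.card_eq_fintype_card]
  rfl

theorem borel_eq_psl_stab {σ : Equiv.Perm GolayPt} (h : σ ∈ psl23) (h0 : σ none = none) :
    σ ∈ borel23 := by
  have := psl23_decomp h
  simpa [h0, toPt] using this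

theorem psl23_le : psl23 ≤ M24 := by
  intro σ h
  have hb : borel23 ≤ M24 := fun g hg => by
    obtain ⟨g, -, rfl⟩ := hg
    exact SporM23_le g.2
  have hs : shift23 ∈ M24 := SporM23_le shift23_mem
  have hp : projInv ∈ M24 :=
    shift23_mem.mem_of_inGroup (rep_tabOf projInv) (inGroup_M24 (by decide +kernel))
  have ht : ∀ q, toPt q ∈ M24 := fun q => by
    cases q with
    | none => exact one_mem _
    | some q => exact mul_mem (pow_mem hs _) hp
  rw [← mul_inv_cancel_left (toPt (σ none)) σ]
  exact mul_mem (ht _) (hb (psl23_decomp h))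

theorem borel23_le : borel23 ≤ Spor.M23 := fun g hg => by
  obtain ⟨g, -, rfl⟩ := hg
  exact g.2

/-- The stabiliser is maximal in the group of degree 23. -/
theorem borel_cases {K : Subgroup (Equiv.Perm GolayPt)} (h : borel23 ≤ K) (h' : K ≤ Spor.M23) :
    K = borel23 ∨ K = Spor.M23 := by
  rcases m23_over_norm23 order_sigma23.1 order_sigma23.2 (K := K.subgroupOf Spor.M23)
    (fun g hg => Subgroup.mem_subgroupOf.2 (h (Subgroup.mem_map_of_mem _ hg))) with e | e
  · refine Or.inl ?_
    rw [borel23, ← e, Subgroup.map_subgroupOf_eq_of_le h']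
  · exact Or.inr (le_antisymm h' (Subgroup.subgroupOf_eq_top.1 e))

/-- The group is maximal. -/
theorem psl_cases {H : Subgroup (Equiv.Perm GolayPt)} (h : psl23 ≤ H) (h' : H ≤ M24) :
    H = psl23 ∨ H = M24 := by
  have hK : ∀ g, g ∈ H → (toPt (g none))⁻¹ * g ∈ H ⊓ Spor.M23 := fun g hg => by
    have hm : (toPt (g none))⁻¹ * g ∈ H := mul_mem (inv_mem (h (toPt_psl _))) hg
    refine ⟨hm, mem_SporM23.2 ⟨h' hm, ?_⟩⟩
    rw [Equiv.Perm.mul_apply, Equiv.Perm.inv_eq_iff_eq]
    exact (toPt_none _).symm
  rcases borel_cases (K := H ⊓ Spor.M23) (le_inf (borel_le_psl.trans h) borel23_le) inf_le_right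
    with e | e
  · refine Or.inl (le_antisymm (fun g hg => ?_) h)
    rw [← mul_inv_cancel_left (toPt (g none)) g]
    exact mul_mem (toPt_psl _) (borel_le_psl (e ▸ hK g hg))
  · refine Or.inr (le_antisymm h' fun g hg => ?_)
    rw [← mul_inv_cancel_left (toPt (g none)) g]
    refine mul_mem (h (toPt_psl _)) (inf_eq_right.1 e ?_)
    exact mem_SporM23.2 ⟨mul_mem (inv_mem (psl23_le (toPt_psl _))) hg, by
      rw [Equiv.Perm.mul_apply, Equiv.Perm.inv_eq_iff_eq]; exact (toPt_none _).symm⟩

/-- Maximality, as a statement on the subgroup of `M24`. -/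
theorem isCoatom_psl : IsCoatom (psl23.subgroupOf M24) := by
  constructor
  · intro e
    have := Nat.le_of_dvd (by norm_num)
      (card_psl23 ▸ Subgroup.card_dvd_of_le (Subgroup.subgroupOf_eq_top.1 e))
    rw [card_M24] at this
    norm_num at this
  · intro H hH
    have hle : psl23 ≤ H.map M24.subtype := fun g hg =>
      ⟨⟨g, psl23_le hg⟩, hH.le hg, rfl⟩
    have hback : (H.map M24.subtype).subgroupOf M24 = H :=
      Subgroup.comap_map_eq_self_of_injective M24.subtype_injective H
    rcases psl_cases hle (Subgroup.map_subtype_le H) with e | e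
    · exact absurd (hback ▸ e ▸ rfl : psl23.subgroupOf M24 = H) hH.ne
    · rw [← hback, e, Subgroup.subgroupOf_self]

theorem borel_le_stab : borel23 ≤ M24 ⊓ MulAction.stabilizer (Equiv.Perm GolayPt) (none : GolayPt) :=
  fun _ hg => ⟨SporM23_le (borel23_le hg), borel_none hg⟩

/-- Maximality of the stabiliser. -/
theorem isCoatom_borel :
    IsCoatom ((borel23.subgroupOf M24).subgroupOf (MulAction.stabilizer M24 (none : GolayPt))) := by
  let S := MulAction.stabilizer M24 (none : GolayPt)
  let j : S →* Equiv.Perm GolayPt := M24.subtype.comp S.subtype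
  have hj : Function.Injective j := M24.subtype_injective.comp S.subtype_injective
  have hrange : j.range = Spor.M23 := by
    ext g
    constructor
    · rintro ⟨x, rfl⟩; exact mem_SporM23.2 ⟨x.1.2, x.2⟩
    · intro hg
      exact ⟨⟨⟨g, SporM23_le hg⟩, (mem_SporM23.1 hg).2⟩, rfl⟩
  have hB : (borel23.subgroupOf M24).subgroupOf S = borel23.comap j := rfl
  show IsCoatom ((borel23.subgroupOf M24).subgroupOf S)
  rw [hB]
  have key : ∀ H : Subgroup S, borel23.comap j ≤ H → H = borel23.comap j ∨ H = ⊤ := by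
    intro H hH
    have hle : borel23 ≤ H.map j := fun g hg => by
      obtain ⟨x, rfl⟩ := (hrange ▸ borel23_le hg : g ∈ j.range)
      exact ⟨x, hH hg, rfl⟩
    have hback : (H.map j).comap j = H := Subgroup.comap_map_eq_self_of_injective hj H
    rcases borel_cases hle ((Subgroup.map_le_range _ _).trans hrange.le) with e | e
    · exact Or.inl (by rw [← hback, e])
    · exact Or.inr (by rw [← hback, e, ← hrange]; exact eq_top_iff.2 fun x _ => ⟨x, rfl⟩)
  refine ⟨fun e => ?_, fun H hH => (key H hH.le).resolve_left fun h => hH.ne h.symm⟩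
  have hle : Spor.M23 ≤ borel23 := by
    rw [← hrange, MonoidHom.range_eq_map, ← e]
    exact Subgroup.map_comap_le j borel23
  have := Nat.le_of_dvd (by norm_num) (card_borel23 ▸ Subgroup.card_dvd_of_le hle)
  rw [card_SporM23] at this
  norm_num at this

end CfsgLib.GolayConfig
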