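import Cfsg.Agent.Mathieu.Code

/-!
The punctured code of length 23: weights, minimum distance and perfection.
-/

set_option autoImplicit false

namespace CfsgLib.GolayConfig

open Cfsg CfsgLib.Mathieu

/-- Forget the extra coordinate. -/
def restr (w : GolayPt → ZMod 2) : ZMod 23 → ZMod 2 := fun x => w (some x)

theorem dist_eq_norm_sub (x y : ZMod 23 → ZMod 2) : hammingDist x y = hammingNorm (x - y) := by
  simp only [hammingDist, hammingNorm, Pi.sub_apply, sub_ne_zero]

theorem restr_sub (v w : GolayPt → ZMod 2) : restr (v - w) = restr v - restr w := rfl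

/-- The punctured code. -/
def code23 : Set (ZMod 23 → ZMod 2) := {u | ∃ w ∈ golayCode, ∀ x : ZMod 23, u x = w (some x)}

theorem code23_eq : code23 = restr '' (golayCode : Set (GolayPt → ZMod 2)) := by
  ext u
  exact ⟨fun ⟨w, hw, h⟩ => ⟨w, hw, funext fun x => (h x).symm⟩,
    fun ⟨w, hw, h⟩ => ⟨w, hw, fun x => (congrFun h x).symm⟩⟩

theorem setOf24_low : setOf24 8388607 = Finset.univ.erase none := by decide +kernel

theorem hammingNorm_restr (w : GolayPt → ZMod 2) :
    hammingNorm (restr w) = ((support₂ w).erase none).card := by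
  rw [hammingNorm, ← Finset.card_map (Function.Embedding.some (α := ZMod 23))]
  congr 1
  ext (_ | x)
  · simp
  · simp only [Finset.mem_map, Finset.mem_filter, Finset.mem_univ, true_and, support₂,
      Finset.mem_erase, restr, Function.Embedding.some_apply, Option.some.injEq, exists_eq_right,
      ne_eq, reduceCtorEq, not_false_eq_true]
    exact Finset.mem_filter.trans (and_iff_right (Finset.mem_univ _))

theorem hammingNorm_le_restr (w : GolayPt → ZMod 2) :
    hammingNorm w ≤ hammingNorm (restr w) + 1 := by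
  rw [hammingNorm_restr, hammingNorm_eq_card_support]
  have := Finset.pred_card_le_card_erase (s := support₂ w) (a := none)
  omega

theorem hammingNorm_code {w : GolayPt → ZMod 2} (hw : w ∈ golayCode) (h0 : w ≠ 0) :
    8 ≤ hammingNorm w := by
  have h := supports_card (show support₂ w ∈ supports (golayCode : Set (GolayPt → ZMod 2)) from
    ⟨w, hw, rfl⟩)
  rw [hammingNorm_eq_card_support]
  have : (support₂ w).card ≠ 0 := by
    rw [← hammingNorm_eq_card_support]; exact fun h => h0 (hammingNorm_eq_zero.1 h)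
  omega

theorem seven_le_restr {w : GolayPt → ZMod 2} (hw : w ∈ golayCode) (h0 : w ≠ 0) :
    7 ≤ hammingNorm (restr w) := by
  have := hammingNorm_code hw h0
  have := hammingNorm_le_restr w
  omega

theorem restr_injOn : Set.InjOn restr (golayCode : Set (GolayPt → ZMod 2)) := by
  intro v hv w hw h
  by_contra hne
  have h7 := seven_le_restr (sub_mem hv hw) (sub_ne_zero.2 hne)
  rw [restr_sub, h, sub_self, hammingNorm_zero] at h7
  omega

theorem golayCode_ncard : (golayCode : Set (GolayPt → ZMod 2)).ncard = 4096 := by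
  have h := Module.natCard_eq_pow_finrank (K := ZMod 2) (V := golayCode)
  rw [finrank_golayCode, Nat.card_zmod] at h
  rw [← Nat.card_coe_set_eq]
  simpa using h

theorem code23_ncard : code23.ncard = 4096 := by
  rw [code23_eq, restr_injOn.ncard_image, golayCode_ncard]

theorem code23_min {u : ZMod 23 → ZMod 2} (hu : u ∈ code23) (h0 : u ≠ 0) : 7 ≤ hammingNorm u := by
  rw [code23_eq] at hu
  obtain ⟨w, hw, rfl⟩ := hu
  exact seven_le_restr hw fun h => h0 (by rw [h]; rfl)

theorem code23_unique {u c c' : ZMod 23 → ZMod 2} (hc : c ∈ code23) (hc' : c' ∈ code23)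
    (h : hammingDist u c ≤ 3) (h' : hammingDist u c' ≤ 3) : c = c' := by
  rw [code23_eq] at hc hc'
  obtain ⟨w, hw, rfl⟩ := hc
  obtain ⟨w', hw', rfl⟩ := hc'
  by_contra hne
  have h7 := seven_le_restr (sub_mem hw hw') (sub_ne_zero.2 fun e => hne (by rw [e]))
  have h6 := hammingDist_triangle_left (restr w) (restr w') u
  rw [restr_sub, ← dist_eq_norm_sub] at h7
  omega

theorem ncard_ball23 : {e : ZMod 23 → ZMod 2 | hammingNorm e ≤ 3}.ncard = 2048 := by
  have hs : Set.InjOn (fun e : ZMod 23 → ZMod 2 => Finset.univ.filter fun x => e x ≠ 0)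
      {e | hammingNorm e ≤ 3} := by
    intro e _ e' _ h
    funext x
    have := Finset.ext_iff.1 h x
    simp only [Finset.mem_filter, Finset.mem_univ, true_and] at this
    rcases (by decide : ∀ a : ZMod 2, a = 0 ∨ a = 1) (e x) with a | a <;>
      rcases (by decide : ∀ a : ZMod 2, a = 0 ∨ a = 1) (e' x) with b | b <;>
      simp_all
  rw [← hs.ncard_image]
  have e : (fun e : ZMod 23 → ZMod 2 => Finset.univ.filter fun x => e x ≠ 0) ''
      {e | hammingNorm e ≤ 3} = ↑((Finset.range 4).biUnion fun k =>
        (Finset.univ : Finset (ZMod 23)).powersetCard k) := by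
    ext s
    simp only [Finset.coe_biUnion, Finset.coe_range, Set.mem_iUnion, Finset.mem_coe,
      Finset.mem_powersetCard, Finset.subset_univ, true_and, Set.mem_Iio, Set.mem_image,
      Set.mem_ofPred_eq]
    constructor
    · rintro ⟨v, hv, rfl⟩; exact ⟨_, Nat.lt_succ_of_le hv, rfl⟩
    · rintro ⟨k, hk, rfl⟩
      refine ⟨fun x => if x ∈ s then 1 else 0, ?_, ?_⟩
      · show hammingNorm _ ≤ 3
        rw [hammingNorm]
        refine le_trans (Finset.card_le_card (t := s) fun x hx => ?_) (by omega)
        by_contra h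
        simp [h] at hx
      · ext x; simp
  rw [e, Set.ncard_coe_finset, Finset.card_biUnion]
  · simp only [Finset.card_powersetCard, Finset.card_univ, ZMod.card]
    decide +kernel
  · intro a _ b _ hab
    rw [Function.onFun, Finset.disjoint_left]
    intro s hs hs'
    exact hab ((Finset.mem_powersetCard.1 hs).2.symm.trans (Finset.mem_powersetCard.1 hs').2)

theorem code23_cover (u : ZMod 23 → ZMod 2) : ∃ c ∈ code23, hammingDist u c ≤ 3 := by
  let f : (ZMod 23 → ZMod 2) × (ZMod 23 → ZMod 2) → (ZMod 23 → ZMod 2) := fun p => p.1 + p.2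
  have hinj : Set.InjOn f (code23 ×ˢ {e | hammingNorm e ≤ 3}) := by
    rintro ⟨c, e⟩ ⟨hc, he⟩ ⟨c', e'⟩ ⟨hc', he'⟩ h
    have h1 : hammingDist (c + e) c ≤ 3 := by
      rw [dist_eq_norm_sub, add_sub_cancel_left]; exact he
    have h2 : hammingDist (c + e) c' ≤ 3 := by
      rw [show c + e = c' + e' from h, dist_eq_norm_sub, add_sub_cancel_left]; exact he'
    obtain rfl := code23_unique hc hc' h1 h2
    rw [show e = e' from add_left_cancel h]
  have hall : f '' (code23 ×ˢ {e | hammingNorm e ≤ 3}) = Set.univ := by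
    refine Set.eq_of_subset_of_ncard_le (Set.subset_univ _) ?_ (Set.toFinite _)
    rw [hinj.ncard_image, Set.ncard_prod, code23_ncard, ncard_ball23, Set.ncard_univ,
      Nat.card_fun, Nat.card_zmod, Nat.card_zmod]
    norm_num
  obtain ⟨⟨c, e⟩, ⟨hc, he⟩, hce⟩ := hall.ge (Set.mem_univ u)
  refine ⟨c, hc, ?_⟩
  rw [← hce]
  show hammingDist (c + e) c ≤ 3
  rw [dist_eq_norm_sub, add_sub_cancel_left]
  exact he

theorem ncard_code23_weight {k n : ℕ}
    (hn : ((List.range 4096).filter fun m => wt (codeMask m &&& 8388607) == k).length = n) :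
    {u | u ∈ code23 ∧ hammingNorm u = k}.ncard = n := by
  have hmem : ∀ M, isCode M = true → hammingNorm (restr (wordOf M)) = wt (M &&& 8388607) := by
    intro M _
    rw [hammingNorm_restr, support₂_wordOf, ← card_setOf24, setOf24_and, setOf24_low]
    rw [Finset.inter_erase, Finset.inter_univ]
  have e : {u | u ∈ code23 ∧ hammingNorm u = k} =
      (fun m => restr (wordOf (codeMask m))) ''
        ↑((Finset.range 4096).filter fun m => (wt (codeMask m &&& 8388607) == k) = true) := by
    ext u
    simp only [Set.mem_ofPred_eq, code23_eq, Finset.coe_filter, Finset.mem_range, beq_iff_eq,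
      Set.mem_image]
    constructor
    · rintro ⟨⟨w, hw, rfl⟩, hk⟩
      obtain ⟨M, hM, rfl⟩ := exists_isCode_of_mem hw
      obtain ⟨m, hm, rfl⟩ := exists_codeMask hM
      exact ⟨m, ⟨hm, (hmem _ hM).symm.trans hk⟩, rfl⟩
    · rintro ⟨m, ⟨-, hk⟩, rfl⟩
      exact ⟨⟨_, wordOf_mem_of_isCode (isCode_codeMask m), rfl⟩,
        (hmem _ (isCode_codeMask m)).trans hk⟩
  rw [e, Set.InjOn.ncard_image, Set.ncard_coe_finset]
  · rw [Finset.card_def, Finset.filter_val, Finset.range_val, Multiset.range, Multiset.filter_coe,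
      Multiset.coe_card, ← hn]
    simp only [Bool.decide_eq_true]
  · intro a ha b hb h
    simp only [Finset.coe_filter, Finset.mem_range, Set.mem_ofPred_eq] at ha hb
    have := restr_injOn (wordOf_mem_of_isCode (isCode_codeMask a))
      (wordOf_mem_of_isCode (isCode_codeMask b)) h
    refine codeMask_injOn ha.1 hb.1
      (setOf24_inj (isCode_lt (isCode_codeMask a)) (isCode_lt (isCode_codeMask b)) ?_)
    rw [← support₂_wordOf, this, support₂_wordOf]

end CfsgLib.GolayConfig
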