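import Cfsg.Agent.GolayConfig.QuartetStab

/-!
The five classes of quartets relative to a fixed one.
-/

set_option autoImplicit false

namespace CfsgLib.GolayConfig

open Cfsg CfsgLib.Mathieu
open scoped Pointwise

/-- Separates the classes: fourth powers of the intersection sizes with the standard quartet. -/
def qKey (Q : Finset (Finset GolayPt)) : ℕ :=
  ∑ a ∈ Q, ∑ t ∈ famCoding.dec cQuartet, (a ∩ t).card ^ 4

/-- The same on codes. -/
def qKeyL (L : List ℕ) : ℕ :=
  (L.map fun M => (cQuartet.map fun T => wt (M &&& T) ^ 4).sum).sum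

theorem qKey_smul {σ : Equiv.Perm GolayPt} (h : σ • famCoding.dec cQuartet = famCoding.dec cQuartet)
    (Q : Finset (Finset GolayPt)) : qKey (σ • Q) = qKey Q := by
  conv_lhs => rw [qKey, ← h]
  show (∑ a ∈ Q.image (fun a => σ • a), ∑ t ∈ (famCoding.dec cQuartet).image (fun t => σ • t),
    (a ∩ t).card ^ 4) = qKey Q
  rw [Finset.sum_image (fun a _ b _ e => MulAction.injective σ e)]
  refine Finset.sum_congr rfl fun a _ => ?_
  rw [Finset.sum_image (fun a _ b _ e => MulAction.injective σ e)]
  exact Finset.sum_congr rfl fun t _ => by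
    rw [← Finset.smul_finset_inter, Finset.card_smul_finset]

theorem quartetData_code : quartetData.all isQuartetCode = true := by decide +kernel

theorem quartetData_length : quartetData.all (fun L => L.length == 4) = true := by decide +kernel

theorem quartetData_distinct : famCoding.distinct quartetData = true := by decide +kernel

theorem map_nodup_of_data {L : List ℕ} (hL : L ∈ quartetData) : (L.map setOf24).Nodup := by
  have h4 := (isQuartetCode_sound (List.all_eq_true.1 quartetData_code L hL)).1.1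
  change (L.map setOf24).toFinset.card = 4 at h4
  rw [List.card_toFinset] at h4
  refine List.dedup_eq_self.1 ((List.dedup_sublist _).eq_of_length ?_)
  rw [h4, List.length_map, beq_iff_eq.1 (List.all_eq_true.1 quartetData_length L hL)]

theorem qKey_dec {L : List ℕ} (hL : L ∈ quartetData) : qKey (famCoding.dec L) = qKeyL L := by
  have hQ : (cQuartet.map setOf24).Nodup := by decide +kernel
  show ∑ a ∈ (L.map setOf24).toFinset, ∑ t ∈ (cQuartet.map setOf24).toFinset, (a ∩ t).card ^ 4 = _
  rw [List.sum_toFinset _ (map_nodup_of_data hL), List.map_map, qKeyL]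
  refine congrArg List.sum (List.map_congr_left fun M _ => ?_)
  simp only [Function.comp_apply]
  rw [List.sum_toFinset _ hQ, List.map_map]
  refine congrArg List.sum (List.map_congr_left fun T _ => ?_)
  simp only [Function.comp_apply]
  rw [← setOf24_and, card_setOf24]

/-- The classes as (key, representative, orbit tree, size). -/
def qClasses : List (ℕ × List ℕ × List (ℕ × ℕ) × ℕ) :=
  [(324, r1599_0, tr1599_0, 1), (90, r1599_1, tr1599_1, 12), (68, r1599_2, tr1599_2, 27),
    (54, r1599_3, tr1599_3, 72), (26, r1599_4, tr1599_4, 108)]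

theorem qClasses_cover : quartetData.all (fun L => qClasses.any fun c =>
    qKeyL L == c.1 && famCoding.mem (famCoding.reach gQS c.2.2.1 [c.2.1]) L) = true := by
  decide +kernel

theorem qClasses_size : qClasses.all (fun c =>
    (quartetData.filter fun L => qKeyL L == c.1).length == c.2.2.2 &&
      quartetData.any (fun L => famCoding.same L c.2.1 && qKeyL L == c.1)) = true := by decide +kernel

theorem moves_of_key {c : ℕ × List ℕ × List (ℕ × ℕ) × ℕ} (hc : c ∈ qClasses)
    {Q : Finset (Finset GolayPt)} (hQ : Q ∈ quartets (setOf24 cD)) (hk : qKey Q = c.1) :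
    Moves HQ (famCoding.dec c.2.1) Q := by
  obtain ⟨L, hL, rfl⟩ := exists_mem_qSearch hQ
  obtain ⟨c', hc', h⟩ := List.any_eq_true.1 (List.all_eq_true.1 qClasses_cover L hL)
  rw [Bool.and_eq_true, beq_iff_eq, ← qKey_dec hL, hk] at h
  have e : ∀ a ∈ qClasses, ∀ b ∈ qClasses, a.1 = b.1 → a = b := by decide +kernel
  obtain rfl := e c hc c' hc' h.1
  exact famCoding.moves_of_cert gensQ c.2.1 c.2.2.1 [L]
    (by rw [List.all_cons, h.2, List.all_nil]; rfl) L (List.mem_singleton.2 rfl)

theorem qClass_rep {c : ℕ × List ℕ × List (ℕ × ℕ) × ℕ} (hc : c ∈ qClasses) :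
    famCoding.dec c.2.1 ∈ quartets (setOf24 cD) ∧ qKey (famCoding.dec c.2.1) = c.1 := by
  have h := List.all_eq_true.1 qClasses_size c hc
  rw [Bool.and_eq_true] at h
  obtain ⟨L, hL, h'⟩ := List.any_eq_true.1 h.2
  rw [Bool.and_eq_true, beq_iff_eq] at h'
  rw [← famCoding.dec_same h'.1]
  exact ⟨(isQuartetCode_sound (List.all_eq_true.1 quartetData_code _ hL)).1,
    by rw [qKey_dec hL, h'.2]⟩

theorem smul_quartet_std {σ : Equiv.Perm GolayPt} (hσ : σ ∈ HQ) {Q : Finset (Finset GolayPt)}
    (hQ : Q ∈ quartets (setOf24 cD)) : σ • Q ∈ quartets (setOf24 cD) := by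
  have := smul_mem_quartets hσ.1.1 hQ
  rwa [show σ • setOf24 cD = setOf24 cD from hσ.1.2] at this

theorem orbit_HQ {c : ℕ × List ℕ × List (ℕ × ℕ) × ℕ} (hc : c ∈ qClasses) :
    MulAction.orbit ↥HQ (famCoding.dec c.2.1) =
      {Q | Q ∈ quartets (setOf24 cD) ∧ qKey Q = c.1} := by
  ext Q
  constructor
  · rintro ⟨g, rfl⟩
    exact ⟨smul_quartet_std g.2 (qClass_rep hc).1,
      (qKey_smul g.2.2 _).trans (qClass_rep hc).2⟩
  · rintro ⟨hQ, hk⟩
    obtain ⟨σ, hσ, e⟩ := moves_of_key hc hQ hk
    exact ⟨⟨σ, hσ⟩, e⟩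

theorem ncard_orbit_HQ {c : ℕ × List ℕ × List (ℕ × ℕ) × ℕ} (hc : c ∈ qClasses) :
    (MulAction.orbit ↥HQ (famCoding.dec c.2.1)).ncard = c.2.2.2 := by
  have e : {Q | Q ∈ quartets (setOf24 cD) ∧ qKey Q = c.1} =
      ↑((quartetData.filter fun L => qKeyL L == c.1).map famCoding.dec).toFinset := by
    ext Q
    simp only [Set.mem_ofPred_eq, List.coe_toFinset, List.mem_map, List.mem_filter, beq_iff_eq]
    constructor
    · rintro ⟨hQ, hk⟩
      obtain ⟨L, hL, rfl⟩ := exists_mem_qSearch hQ
      exact ⟨L, ⟨hL, (qKey_dec hL).symm.trans hk⟩, rfl⟩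
    · rintro ⟨L, ⟨hL, hk⟩, rfl⟩
      exact ⟨(isQuartetCode_sound (List.all_eq_true.1 quartetData_code L hL)).1,
        (qKey_dec hL).trans hk⟩
  have hs := List.all_eq_true.1 qClasses_size c hc
  simp only [Bool.and_eq_true, beq_iff_eq] at hs
  rw [orbit_HQ hc, e, Set.ncard_coe_finset, List.toFinset_card_of_nodup, List.length_map, hs.1]
  exact ((famCoding_nodup (fun L hL =>
    (isQuartetCode_sound (List.all_eq_true.1 quartetData_code L hL)).2) quartetData_distinct).sublist
      (List.filter_sublist.map _))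

theorem qClass_total {Q : Finset (Finset GolayPt)} (hQ : Q ∈ quartets (setOf24 cD)) :
    ∃ c ∈ qClasses, Q ∈ MulAction.orbit ↥HQ (famCoding.dec c.2.1) := by
  obtain ⟨L, hL, rfl⟩ := exists_mem_qSearch hQ
  obtain ⟨c, hc, h⟩ := List.any_eq_true.1 (List.all_eq_true.1 qClasses_cover L hL)
  rw [Bool.and_eq_true, beq_iff_eq, ← qKey_dec hL] at h
  exact ⟨c, hc, by rw [orbit_HQ hc]; exact ⟨hQ, h.1⟩⟩

theorem orbit_HQ_self : MulAction.orbit ↥HQ (famCoding.dec r1599_0) = {famCoding.dec cQuartet} := by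
  ext Q
  constructor
  · rintro ⟨g, rfl⟩; exact g.2.2
  · rintro rfl; exact ⟨1, one_smul _ _⟩

end CfsgLib.GolayConfig
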