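import Cfsg.Agent.GolayConfig.Quartets

/-!
Transport of quartets, transitivity on them, and counting of families given by lists of masks.
-/

set_option autoImplicit false

namespace CfsgLib.GolayConfig

open Cfsg CfsgLib.Mathieu
open scoped Pointwise

theorem smul_mem_quartets {σ : Equiv.Perm GolayPt} (hσ : σ ∈ M24) {d : Finset GolayPt}
    {Q : Finset (Finset GolayPt)} (hQ : Q ∈ quartets d) : σ • Q ∈ quartets (σ • d) := by
  obtain ⟨h4, ht, hu⟩ := hQ
  refine ⟨by rw [Finset.card_smul_finset, h4], fun t h => ?_, fun t h u h' hne => ?_⟩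
  · obtain ⟨t, htQ, rfl⟩ := Finset.mem_smul_finset.1 h
    exact ⟨by rw [Finset.card_smul_finset, (ht t htQ).1],
      Finset.smul_finset_subset_smul_finset (ht t htQ).2⟩
  · obtain ⟨t, htQ, rfl⟩ := Finset.mem_smul_finset.1 h
    obtain ⟨u, huQ, rfl⟩ := Finset.mem_smul_finset.1 h'
    obtain ⟨h6, o, ho, hod⟩ := hu t htQ u huQ (fun e => hne (by rw [e]))
    refine ⟨by rw [← Finset.smul_finset_union, Finset.card_smul_finset, h6], σ • o,
      (smul_mem_wordsOfWeight_iff hσ 8 o).2 ho, ?_⟩
    rw [← Finset.smul_finset_inter, hod, Finset.smul_finset_union]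

theorem smul_mem_quartets_iff {σ : Equiv.Perm GolayPt} (hσ : σ ∈ M24) {d : Finset GolayPt}
    {Q : Finset (Finset GolayPt)} : σ • Q ∈ quartets (σ • d) ↔ Q ∈ quartets d := by
  refine ⟨fun h => ?_, smul_mem_quartets hσ⟩
  have := smul_mem_quartets (inv_mem hσ) h
  rwa [inv_smul_smul, inv_smul_smul] at this

/-- Transitivity on quartets passing a test. -/
theorem moves_quartet {H : Subgroup (Equiv.Perm GolayPt)} {gens : List ℕ}
    (hg : ∀ t ∈ gens, InGroup enc H t) (x : List ℕ) (steps : List (ℕ × ℕ)) (pred : List ℕ → Bool)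
    (P : Finset (Finset GolayPt) → Prop) (hP : ∀ L, P (famCoding.dec L) → pred L = true)
    (h : quartetData.all (fun L => !pred L || famCoding.mem (famCoding.reach gens steps [x]) L) = true)
    {Q : Finset (Finset GolayPt)} (hQ : Q ∈ quartets (setOf24 cD)) (hPQ : P Q) :
    Moves H (famCoding.dec x) Q := by
  obtain ⟨L, hL, rfl⟩ := exists_mem_qSearch hQ
  have hL' := List.all_eq_true.1 h L hL
  rw [hP L hPQ, Bool.not_true, Bool.false_or] at hL'
  exact famCoding.moves_of_cert hg x steps [L]
    (by rw [List.all_cons, hL', List.all_nil]; rfl) L (List.mem_singleton.2 rfl)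

theorem famSame_complete {L L' : List ℕ} (h : ∀ M ∈ L, M < 2 ^ 24) (h' : ∀ M ∈ L', M < 2 ^ 24)
    (e : famCoding.dec L = famCoding.dec L') : famCoding.same L L' = true := by
  show (L.all (fun M => L'.contains M) && L'.all (fun M => L.contains M)) = true
  simp only [Bool.and_eq_true, List.all_eq_true, List.contains_iff_mem]
  have e' : (L.map setOf24).toFinset = (L'.map setOf24).toFinset := e
  constructor
  · intro M hM
    have : setOf24 M ∈ (L'.map setOf24).toFinset :=
      e' ▸ List.mem_toFinset.2 (List.mem_map_of_mem hM)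
    obtain ⟨N, hN, hNM⟩ := List.mem_map.1 (List.mem_toFinset.1 this)
    rwa [← setOf24_inj (h' N hN) (h M hM) hNM]
  · intro M hM
    have : setOf24 M ∈ (L.map setOf24).toFinset :=
      e'.symm ▸ List.mem_toFinset.2 (List.mem_map_of_mem hM)
    obtain ⟨N, hN, hNM⟩ := List.mem_map.1 (List.mem_toFinset.1 this)
    rwa [← setOf24_inj (h N hN) (h' M hM) hNM]

theorem famCoding_nodup : ∀ {Ls : List (List ℕ)}, (∀ L ∈ Ls, ∀ M ∈ L, M < 2 ^ 24) →
    famCoding.distinct Ls = true → (Ls.map famCoding.dec).Nodup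
  | [], _, _ => List.nodup_nil
  | L :: Ls, hlt, h => by
    rw [Coding.distinct, Bool.and_eq_true, List.all_eq_true] at h
    rw [List.map_cons, List.nodup_cons]
    refine ⟨fun hm => ?_, famCoding_nodup (fun L' hL' => hlt L' (List.mem_cons_of_mem _ hL')) h.2⟩
    obtain ⟨L', hL', e⟩ := List.mem_map.1 hm
    have := h.1 L' hL'
    rw [famSame_complete (hlt L (List.mem_cons_self ..)) (hlt L' (List.mem_cons_of_mem _ hL')) e.symm]
      at this
    exact absurd this (by simp)

/-- Sound test that a list of masks codes a quartet of the standard dodecad. -/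
def isQuartetCode (L : List ℕ) : Bool :=
  L.all (fun M => wt M == 3 && M &&& cD == M && M % 16777216 == M) &&
    L.all (fun M => L.all fun N => M == N || hexData.contains (M ||| N)) && L.dedup.length == 4

theorem isQuartetCode_sound {L : List ℕ} (h : isQuartetCode L = true) :
    famCoding.dec L ∈ quartets (setOf24 cD) ∧ ∀ M ∈ L, M < 2 ^ 24 := by
  simp only [isQuartetCode, Bool.and_eq_true, List.all_eq_true, beq_iff_eq, Bool.or_eq_true,
    List.contains_iff_mem] at h
  obtain ⟨⟨h1, h2⟩, h3⟩ := h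
  have hlt : ∀ M ∈ L, M < 2 ^ 24 := fun M hM => by
    rw [← (h1 M hM).2]; exact Nat.mod_lt _ (by norm_num)
  refine ⟨⟨?_, fun t ht => ?_, fun t ht u hu hne => ?_⟩, hlt⟩
  · show (L.map setOf24).toFinset.card = 4
    have e : (L.map setOf24).toFinset = (L.dedup.map setOf24).toFinset := by
      ext s; simp [List.mem_dedup]
    rw [e, List.toFinset_card_of_nodup, List.length_map, h3]
    exact (List.nodup_dedup L).map_on fun a ha b hb hab =>
      setOf24_inj (hlt a (List.mem_dedup.1 ha)) (hlt b (List.mem_dedup.1 hb)) hab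
  · obtain ⟨M, hM, rfl⟩ := List.mem_map.1 (List.mem_toFinset.1 ht)
    refine ⟨by rw [card_setOf24]; exact (h1 M hM).1.1, ?_⟩
    rw [← Finset.inter_eq_left, ← setOf24_and, (h1 M hM).1.2]
  · obtain ⟨M, hM, rfl⟩ := List.mem_map.1 (List.mem_toFinset.1 ht)
    obtain ⟨N, hN, rfl⟩ := List.mem_map.1 (List.mem_toFinset.1 hu)
    rw [← hexList_eq] at h2
    rcases h2 M hM N hN with rfl | hx
    · exact absurd rfl hne
    rw [← setOf24_or]
    obtain ⟨hx, h6⟩ := List.mem_filter.1 hx
    obtain ⟨O, hO, e⟩ := List.mem_map.1 hx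
    obtain ⟨hO, h8⟩ := List.mem_filter.1 hO
    refine ⟨by rw [card_setOf24]; exact beq_iff_eq.1 h6, setOf24 O,
      setOf24_mem_wordsOfWeight (mem_codeWords.1 hO) (beq_iff_eq.1 h8), ?_⟩
    rw [← setOf24_and, e]

/-- Exact count of the quartets passing a test. -/
theorem ncard_quartets (pred : List ℕ → Bool) (P : Finset (Finset GolayPt) → Prop)
    (hP : ∀ L, pred L = true ↔ P (famCoding.dec L)) {n : ℕ}
    (h1 : (quartetData.filter pred).all isQuartetCode = true)
    (h2 : famCoding.distinct (quartetData.filter pred) = true)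
    (hn : (quartetData.filter pred).length = n) :
    {Q | Q ∈ quartets (setOf24 cD) ∧ P Q}.ncard = n := by
  have e : {Q | Q ∈ quartets (setOf24 cD) ∧ P Q} =
      ↑((quartetData.filter pred).map famCoding.dec).toFinset := by
    ext Q
    simp only [Set.mem_ofPred_eq, List.coe_toFinset, List.mem_map]
    constructor
    · rintro ⟨hQ, hp⟩
      obtain ⟨L, hL, rfl⟩ := exists_mem_qSearch hQ
      exact ⟨L, List.mem_filter.2 ⟨hL, (hP L).2 hp⟩, rfl⟩
    · rintro ⟨L, hL, rfl⟩
      exact ⟨(isQuartetCode_sound (List.all_eq_true.1 h1 L hL)).1, (hP L).1 (List.mem_filter.1 hL).2⟩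
  rw [e, Set.ncard_coe_finset, List.toFinset_card_of_nodup, List.length_map, hn]
  exact famCoding_nodup (fun L hL => (isQuartetCode_sound (List.all_eq_true.1 h1 L hL)).2) h2

theorem cQuartet_mem : famCoding.dec cQuartet ∈ quartets (setOf24 cD) :=
  (isQuartetCode_sound (by decide +kernel)).1

/-- All quartets of the standard dodecad are conjugate under its stabiliser. -/
theorem moves_quartet_std {Q : Finset (Finset GolayPt)} (hQ : Q ∈ quartets (setOf24 cD)) :
    Moves H12 (famCoding.dec cQuartet) Q :=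
  moves_quartet gens12 cQuartet trQ (fun _ => true) (fun _ => True) (fun _ _ => rfl)
    (by decide +kernel) hQ trivial

theorem ncard_quartets_std : (quartets (setOf24 cD)).ncard = 220 := by
  have h := ncard_quartets (fun _ => true) (fun _ => True) (fun _ => by simp) (n := 220)
    (by decide +kernel) (by decide +kernel) (by decide +kernel)
  simpa using h

theorem ncard_quartets_of_mem {d : Finset GolayPt} (hd : d ∈ dodecads) : (quartets d).ncard = 220 := by
  obtain ⟨σ, hσ, rfl⟩ := exists_dodecad hd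
  have : {s | s ∈ quartets (σ • setOf24 cD)}.ncard = {s | s ∈ quartets (setOf24 cD)}.ncard :=
    ncard_transport σ _ _ fun s => smul_mem_quartets_iff hσ
  simpa [ncard_quartets_std] using this

/-- A dodecad with one of its quartets is an image of the standard pair. -/
theorem exists_dodecad_quartet {d : Finset GolayPt} (hd : d ∈ dodecads)
    {Q : Finset (Finset GolayPt)} (hQ : Q ∈ quartets d) :
    ∃ σ ∈ M24, σ • setOf24 cD = d ∧ σ • famCoding.dec cQuartet = Q := by
  obtain ⟨σ, hσ, rfl⟩ := exists_dodecad hd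
  have hQ' : σ⁻¹ • Q ∈ quartets (setOf24 cD) :=
    (smul_mem_quartets_iff hσ).1 (by rw [smul_inv_smul]; exact hQ)
  obtain ⟨τ, hτ, e⟩ := moves_quartet_std hQ'
  exact ⟨σ * τ, mul_mem hσ hτ.1,
    by rw [mul_smul]; exact congrArg (fun s => σ • s) hτ.2,
    by rw [mul_smul, e, smul_inv_smul]⟩

end CfsgLib.GolayConfig
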