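import Cfsg.Agent.GolayConfig.Stabilisers
import Cfsg.Agent.GolayConfig.SmallTargets
import Cfsg.Agent.GolayConfig.HomData

/-!
The stabiliser of a dodecad and one of its quartets.
-/

set_option autoImplicit false

namespace CfsgLib.GolayConfig

open Cfsg CfsgLib.Mathieu
open scoped Pointwise

/-- The orbit of a conjugated subgroup is the translated orbit. -/
theorem orbit_subConj {X : Type} [MulAction (Equiv.Perm GolayPt) X] {A : Subgroup ↥M24}
    {K : Subgroup (Equiv.Perm GolayPt)} {σ : Equiv.Perm GolayPt} (hσ : σ ∈ M24) (hK : K ≤ M24)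
    (h : ∀ g : ↥M24, g ∈ A ↔ σ⁻¹ * (g : Equiv.Perm GolayPt) * σ ∈ K) (y : X) :
    MulAction.orbit ↥A (σ • y) = (fun z => σ • z) '' MulAction.orbit ↥K y := by
  ext z
  constructor
  · rintro ⟨g, rfl⟩
    refine ⟨(σ⁻¹ * (g.1 : Equiv.Perm GolayPt) * σ) • y, ⟨⟨_, (h g.1).1 g.2⟩, rfl⟩, ?_⟩
    show σ • (σ⁻¹ * (g.1 : Equiv.Perm GolayPt) * σ) • y = (g.1 : Equiv.Perm GolayPt) • σ • y
    rw [← mul_smul, ← mul_smul, mul_assoc, ← mul_assoc σ, mul_inv_cancel, one_mul]
  · rintro ⟨_, ⟨k, rfl⟩, rfl⟩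
    refine ⟨(subConj hσ hK h).symm k, ?_⟩
    show (σ * (k : Equiv.Perm GolayPt) * σ⁻¹) • σ • y = σ • (k : Equiv.Perm GolayPt) • y
    rw [← mul_smul, ← mul_smul, mul_assoc, inv_mul_cancel, mul_one]

theorem HQ_le : HQ ≤ M24 := fun _ h => h.1.1

theorem quartet_conj_mem {σ : Equiv.Perm GolayPt} (hσ : σ ∈ M24) {d : Finset GolayPt}
    {Q : Finset (Finset GolayPt)} (hd : σ • setOf24 cD = d) (hQ : σ • famCoding.dec cQuartet = Q)
    (g : ↥M24) :
    g ∈ MulAction.stabilizer M24 d ⊓ MulAction.stabilizer M24 Q ↔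
      σ⁻¹ * (g : Equiv.Perm GolayPt) * σ ∈ HQ := by
  constructor
  · rintro ⟨h1, h2⟩
    exact ⟨⟨M24.mul_mem (M24.mul_mem (M24.inv_mem hσ) g.2) hσ, (stab_conj_iff hd).2 h1⟩,
      (stab_conj_iff hQ).2 h2⟩
  · rintro ⟨⟨-, h1⟩, h2⟩
    exact ⟨(stab_conj_iff hd).1 h1, (stab_conj_iff hQ).1 h2⟩

/-- All quadruples over `ZMod 3`. -/
def quads3 : List (Quad (ZMod 3)) :=
  let v : List (ZMod 3) := [0, 1, 2]
  v.flatMap fun a => v.flatMap fun b => v.flatMap fun c => v.map fun d => (a, b, c, d)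

theorem mem_quads3 : ∀ a b c d : ZMod 3, (a, b, c, d) ∈ quads3 := by decide +kernel

/-- The quartet stabiliser maps onto GL(2, 3). -/
theorem exists_HQ_onto :
    ∃ φ : ↥HQ →* GL (Fin 2) (ZMod 3), Function.Surjective φ := by
  obtain ⟨φ, hφ, -⟩ := matTarget.exists_hom (K := HQ) (gens := gensQS)
    (fun g hg => gensQ g.1 ((by decide +kernel : ∀ t ∈ gensQS.map Prod.fst, t ∈ gQS) g.1
      (List.mem_map_of_mem hg))) stepsQS [nextQS0, nextQS1] modQS (by decide +kernel)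
    (by
      rw [card_HQ]
      exact (show (432 ≤ (matTarget.build gensQS stepsQS [(idTab, matTarget.one)]).length) from
        (by decide +kernel)))
  refine ⟨φ.toHomUnits, fun u => ?_⟩
  have hdet : (u : Matrix (Fin 2) (Fin 2) (ZMod 3)).det ≠ 0 :=
    ((Matrix.isUnit_iff_isUnit_det _).1 u.isUnit).ne_zero
  rw [Matrix.det_fin_two] at hdet
  have key : quads3.all (fun x => decide (x.1 * x.2.2.2 - x.2.1 * x.2.2.1 = 0) ||
      (matTarget.build gensQS stepsQS [(idTab, matTarget.one)]).any fun r => decide (r.2 = x)) =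
        true := by decide +kernel
  have := List.all_eq_true.1 key _ (mem_quads3 (u.1 0 0) (u.1 0 1) (u.1 1 0) (u.1 1 1))
  rw [Bool.or_eq_true, decide_eq_true_eq, List.any_eq_true] at this
  rcases this with h0 | ⟨r, hr, he⟩
  · exact absurd h0 hdet
  · obtain ⟨σ, -, hσ⟩ := hφ r hr
    refine ⟨σ, Units.ext ?_⟩
    rw [MonoidHom.coe_toHomUnits, hσ, of_decide_eq_true he]
    ext i j
    fin_cases i <;> fin_cases j <;> rfl

theorem card_GL23 : Nat.card (GL (Fin 2) (ZMod 3)) = 48 := by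
  rw [Matrix.card_GL_field, Fintype.card_eq_nat_card, Nat.card_zmod, Fin.prod_univ_two]
  rfl

end CfsgLib.GolayConfig
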