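import Cfsg.Agent.GolayConfig.Std
import Cfsg.Agent.GolayConfig.QuartetData
import Cfsg.Prelude.Def_SporadicCombinatorics

/-!
The quartets of the standard dodecad: complete enumeration and exact counts.
-/

set_option autoImplicit false

namespace CfsgLib.GolayConfig

open Cfsg CfsgLib.Mathieu
open scoped Pointwise

/-- Positions of the points of the standard dodecad. -/
def dPos : List ℕ := (List.range 24).filter fun i => hasPt i cD

/-- The triples in the standard dodecad. -/
def triples : List ℕ := (List.sublistsLen 3 dPos).map fun l => (l.map fun i => 2 ^ i).sum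

/-- The hexads on the standard dodecad. -/
def hexList : List ℕ :=
  ((codeSel fun M => wt M == 8).map fun M => M &&& cD).filter fun M => wt M == 6

theorem mem_dPos {i : ℕ} : i ∈ dPos ↔ i < 24 ∧ pt i ∈ setOf24 cD := by
  simp only [dPos, List.mem_filter, List.mem_range]
  exact and_congr_right fun h => hasPt_iff h

theorem maskOf_mem_triples {s : Finset GolayPt} (h3 : s.card = 3) (hs : s ⊆ setOf24 cD) :
    maskOf s ∈ triples := by
  have hnd : (dPos.filter fun i => decide (pt i ∈ s)).Nodup :=
    (List.nodup_range.filter _).filter _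
  have hset : (dPos.filter fun i => decide (pt i ∈ s)).toFinset = s.image idx := by
    ext i
    simp only [List.mem_toFinset, List.mem_filter, mem_dPos, decide_eq_true_eq, Finset.mem_image]
    constructor
    · rintro ⟨⟨hi, -⟩, hp⟩; exact ⟨pt i, hp, idx_pt hi⟩
    · rintro ⟨p, hp, rfl⟩
      exact ⟨⟨idx_lt p, by rw [pt_idx]; exact hs hp⟩, by rw [pt_idx]; exact hp⟩
  refine List.mem_map.2 ⟨dPos.filter fun i => decide (pt i ∈ s),
    List.mem_sublistsLen.2 ⟨List.filter_sublist, ?_⟩, ?_⟩
  · rw [← List.toFinset_card_of_nodup hnd, hset, Finset.card_image_of_injective _ idx_injective, h3]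
  · rw [maskOf_eq, ← hset, List.sum_toFinset (fun i => 2 ^ i) hnd]

theorem maskOf_mem_hexList {h : Finset GolayPt} (hh : h ∈ hexadsOn (setOf24 cD)) :
    maskOf h ∈ hexList := by
  obtain ⟨h6, o, ho, rfl⟩ := hh
  have e : maskOf (o ∩ setOf24 cD) = maskOf o &&& cD := by
    refine setOf24_inj (maskOf_lt _) (lt_of_le_of_lt Nat.and_le_left (maskOf_lt o)) ?_
    rw [setOf24_and, setOf24_maskOf, setOf24_maskOf]
  refine List.mem_filter.2 ⟨List.mem_map.2 ⟨maskOf o, mem_codeSel ho.1 ?_, e.symm⟩, ?_⟩
  · rw [beq_iff_eq, wt_maskOf]; exact ho.2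
  · rw [beq_iff_eq, wt_maskOf]; exact h6

theorem dPos_eq : dPos = dPosData := by decide +kernel

theorem triples_eq : triples = tripleData := by decide +kernel

theorem hexList_eq : hexList = hexData := by decide +kernel

/-- A quick test passed by every hexad. -/
def maybeHexad (M : ℕ) : Bool := hexBits.testBit (M % hexModulus)

theorem maybeHexad_of_mem {M : ℕ} (h : M ∈ hexList) : maybeHexad M = true :=
  List.all_eq_true.1 (by decide +kernel : hexData.all maybeHexad = true) M (hexList_eq ▸ h)

/-- Extend a partial quartet by triples through the least point not yet covered. -/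
def qSearch : ℕ → List ℕ → List (List ℕ)
  | 0, acc => [acc]
  | n + 1, acc =>
    match dPosData.find? fun i => acc.all fun u => !hasPt i u with
    | none => []
    | some i => (tripleData.filter fun t =>
        hasPt i t && acc.all fun u => maybeHexad (t ||| u)).flatMap
          fun t => qSearch n (t :: acc)

section

variable {Q : Finset (Finset GolayPt)} (hQ : Q ∈ quartets (setOf24 cD))
include hQ

theorem quartet_cover : Q.biUnion id = setOf24 cD := by
  obtain ⟨h4, ht, hu⟩ := hQ
  refine Finset.eq_of_subset_of_card_le (Finset.biUnion_subset.2 fun t h => (ht t h).2) ?_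
  rw [card_setOf24, show wt cD = 12 by decide +kernel, Finset.card_biUnion]
  · simp only [id_eq]
    rw [Finset.sum_congr rfl (g := fun _ => 3) (fun t h => (ht t h).1), Finset.sum_const, h4]
    decide
  · intro t h u h' hne
    rw [Function.onFun, Finset.disjoint_iff_inter_eq_empty, ← Finset.card_eq_zero]
    have := Finset.card_union_add_card_inter t u
    rw [(ht t h).1, (ht u h').1, (hu t h u h' hne).1] at this
    show (t ∩ u).card = 0
    omega

theorem mem_qSearch : ∀ (n : ℕ) (acc : List ℕ),
    acc.length + n = 4 → (∀ u ∈ acc, setOf24 u ∈ Q ∧ u < 2 ^ 24) → (acc.map setOf24).Nodup →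
      ∃ L ∈ qSearch n acc, famCoding.dec L = Q
  | 0, acc, hlen, hmem, hnd => by
    refine ⟨acc, by simp [qSearch], ?_⟩
    refine Finset.eq_of_subset_of_card_le (fun s hs => ?_) ?_
    · obtain ⟨u, hu, rfl⟩ := List.mem_map.1 (List.mem_toFinset.1 hs); exact (hmem u hu).1
    · show Q.card ≤ (acc.map setOf24).toFinset.card
      rw [List.toFinset_card_of_nodup hnd, List.length_map, hQ.1]
      omega
  | n + 1, acc, hlen, hmem, hnd => by
    simp only [qSearch, ← dPos_eq, ← triples_eq]
    split
    · rename_i hnone
      exfalso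
      rw [List.find?_eq_none] at hnone
      have hsub : setOf24 cD ⊆ (acc.map setOf24).toFinset.biUnion id := by
        intro p hp
        have := hnone (idx p) (mem_dPos.2 ⟨idx_lt p, by rw [pt_idx]; exact hp⟩)
        simp only [List.all_eq_true, not_forall, Bool.not_eq_true', Bool.not_eq_false] at this
        obtain ⟨u, hu, hpu⟩ := this
        rw [hasPt_iff (idx_lt p), pt_idx] at hpu
        exact Finset.mem_biUnion.2 ⟨_, List.mem_toFinset.2 (List.mem_map.2 ⟨u, hu, rfl⟩), hpu⟩
      have h12 := Finset.card_le_card hsub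
      have h3 : ((acc.map setOf24).toFinset.biUnion id).card ≤
          (acc.map setOf24).toFinset.card * 3 := by
        refine Finset.card_biUnion_le_card_mul _ _ 3 fun s hs => ?_
        obtain ⟨u, hu, rfl⟩ := List.mem_map.1 (List.mem_toFinset.1 hs)
        exact (hQ.2.1 _ (hmem u hu).1).1.le
      rw [card_setOf24, show wt cD = 12 by decide +kernel] at h12
      rw [List.toFinset_card_of_nodup hnd, List.length_map] at h3
      omega
    · rename_i i hi
      obtain ⟨hi24, hid⟩ := mem_dPos.1 (List.mem_of_find?_eq_some hi)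
      have hav := List.find?_some hi
      rw [← quartet_cover hQ, Finset.mem_biUnion] at hid
      obtain ⟨t, htQ, hpt⟩ := hid
      have hnew : ∀ u ∈ acc, t ≠ setOf24 u := by
        intro u hu e
        have := List.all_eq_true.1 hav u hu
        rw [Bool.not_eq_true'] at this
        exact Bool.eq_false_iff.1 this ((hasPt_iff hi24).2 (e ▸ hpt))
      obtain ⟨L, hL, hLQ⟩ := mem_qSearch n (maskOf t :: acc) (by simp only [List.length_cons]; omega)
        (fun u hu => by
          rcases List.mem_cons.1 hu with rfl | hu
          · exact ⟨by rwa [setOf24_maskOf], maskOf_lt t⟩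
          · exact hmem u hu)
        (by
          rw [List.map_cons, setOf24_maskOf, List.nodup_cons]
          refine ⟨fun h => ?_, hnd⟩
          obtain ⟨u, hu, e⟩ := List.mem_map.1 h
          exact hnew u hu e.symm)
      refine ⟨L, List.mem_flatMap.2 ⟨maskOf t, List.mem_filter.2
        ⟨maskOf_mem_triples (hQ.2.1 t htQ).1 (hQ.2.1 t htQ).2, ?_⟩, hL⟩, hLQ⟩
      rw [Bool.and_eq_true, List.all_eq_true]
      refine ⟨(hasPt_maskOf hi24 t).2 hpt, fun u hu => ?_⟩
      refine maybeHexad_of_mem ?_
      obtain ⟨huQ, hu24⟩ := hmem u hu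
      have hx := maskOf_mem_hexList (hQ.2.2 t htQ (setOf24 u) huQ (hnew u hu))
      rw [show maskOf t ||| u = maskOf (t ∪ setOf24 u) by
        refine setOf24_inj (Nat.or_lt_two_pow (maskOf_lt t) hu24) (maskOf_lt _) ?_
        rw [setOf24_or, setOf24_maskOf, setOf24_maskOf]]
      exact hx

/-- Every quartet of the standard dodecad is found by the search. -/
theorem exists_mem_qSearch : ∃ L ∈ quartetData, famCoding.dec L = Q := by
  have e : qSearch 4 [] = quartetData := by decide +kernel
  rw [← e]
  exact mem_qSearch hQ 4 [] rfl (fun u hu => absurd hu (by simp)) (by simp)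

end

end CfsgLib.GolayConfig
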