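import Cfsg.Agent.GolayConfig.Config

/-!
Reduction of configurations to standard ones, and orbit partitions of stabilisers on families of
supports cut out by a test and separated by a key.
-/

set_option autoImplicit false

namespace CfsgLib.GolayConfig

open Cfsg CfsgLib.Mathieu
open scoped Pointwise

theorem smul_mem_iff (σ : Equiv.Perm GolayPt) (p : GolayPt) (s : Finset GolayPt) :
    σ p ∈ σ • s ↔ p ∈ s := Finset.smul_mem_smul_finset_iff σ

theorem card_smul_inter (σ : Equiv.Perm GolayPt) (s t : Finset GolayPt) :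
    (σ • s ∩ σ • t).card = (s ∩ t).card := by
  rw [← Finset.smul_finset_inter, Finset.card_smul_finset]

theorem ncard_transport {α : Type} [MulAction (Equiv.Perm GolayPt) α] (σ : Equiv.Perm GolayPt)
    (P Q : α → Prop) (h : ∀ s, Q (σ • s) ↔ P s) : {s | Q s}.ncard = {s | P s}.ncard := by
  have e : {s | Q s} = (fun s => σ • s) '' {s | P s} := by
    ext s
    constructor
    · intro hs
      exact ⟨σ⁻¹ • s, (h _).1 (by rw [smul_inv_smul]; exact hs), smul_inv_smul σ s⟩
    · rintro ⟨t, ht, rfl⟩; exact (h t).2 ht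
  rw [e, Set.ncard_image_of_injective _ (MulAction.injective σ)]

/-- Bit at a position, for use in tests. -/
def hasPt (i M : ℕ) : Bool := M.testBit i

theorem hasPt_iff {i M : ℕ} (hi : i < 24) : hasPt i M = true ↔ pt i ∈ setOf24 M := by
  rw [mem_setOf24, idx_pt hi]; rfl

theorem wt_and_maskOf (N : ℕ) (s : Finset GolayPt) :
    wt (N &&& maskOf s) = (setOf24 N ∩ s).card := by
  rw [← card_setOf24, setOf24_and, setOf24_maskOf]

theorem hasPt_maskOf {i : ℕ} (hi : i < 24) (s : Finset GolayPt) :
    hasPt i (maskOf s) = true ↔ pt i ∈ s := by rw [hasPt_iff hi, setOf24_maskOf]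

theorem wt_maskOf (s : Finset GolayPt) : wt (maskOf s) = s.card := by
  rw [← card_setOf24, setOf24_maskOf]

/-- Two supports passing `pred` with equal key lie in one orbit. -/
theorem moves_classes {H : Subgroup (Equiv.Perm GolayPt)} {gens : List ℕ}
    (hg : ∀ t ∈ gens, InGroup enc H t) (classes : List (ℕ × List (ℕ × ℕ))) (pred : ℕ → Bool)
    (key : ℕ → ℕ) (hcls : classes.all (fun c => isCode c.1) = true)
    (h : (List.range 4096).all (fun m => !pred (codeMask m) ||
      (classes.any (fun c => key c.1 == key (codeMask m)) &&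
        classes.all (fun c => !(key c.1 == key (codeMask m)) ||
          (reachCode gens c.2 (2 ^ (c.1 % 4096))).testBit m))) = true)
    {s s' : Finset GolayPt} (hs : s ∈ supports (golayCode : Set (GolayPt → ZMod 2)))
    (hs' : s' ∈ supports (golayCode : Set (GolayPt → ZMod 2))) (hp : pred (maskOf s) = true)
    (hp' : pred (maskOf s') = true) (hk : key (maskOf s) = key (maskOf s')) : Moves H s s' := by
  have get : ∀ t : Finset GolayPt, t ∈ supports (golayCode : Set (GolayPt → ZMod 2)) →
      pred (maskOf t) = true → (∃ c ∈ classes, key c.1 = key (maskOf t)) ∧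
      ∀ c ∈ classes, key c.1 = key (maskOf t) → Moves H (setOf24 c.1) t := by
    intro t ht hpt
    obtain ⟨m, hm, e⟩ := exists_codeMask ((mem_supports_iff t).1 ht)
    have := List.all_eq_true.1 h m (List.mem_range.2 hm)
    rw [← e, hpt, Bool.not_true, Bool.false_or, Bool.and_eq_true] at this
    obtain ⟨h1, h2⟩ := this
    refine ⟨?_, fun c hc hck => ?_⟩
    · obtain ⟨c, hc, hck⟩ := List.any_eq_true.1 h1
      exact ⟨c, hc, beq_iff_eq.1 hck⟩
    · have := List.all_eq_true.1 h2 c hc
      rw [hck, beq_self_eq_true, Bool.not_true, Bool.false_or] at this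
      rw [← setOf24_maskOf t, e]
      refine moves_of_reachCode hg _ _ _ (fun i hi => ?_) m this
      rw [Nat.testBit_two_pow, decide_eq_true_eq] at hi
      rw [← hi, codeMask_mod (List.all_eq_true.1 hcls c hc)]
      exact Moves.refl H _
  obtain ⟨⟨c, hc, hck⟩, hm⟩ := get s hs hp
  exact (hm c hc hck).symm.trans ((get s' hs' hp').2 c hc (hck.trans hk))

/-- Carry an orbit statement from the standard configuration to another one. -/
theorem moves_conj {α : Type} [MulAction (Equiv.Perm GolayPt) α]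
    {H : Subgroup (Equiv.Perm GolayPt)} {σ : Equiv.Perm GolayPt} {s s' : α}
    (h : Moves H (σ⁻¹ • s) (σ⁻¹ • s')) : ∃ τ ∈ H, (σ * τ * σ⁻¹) • s = s' := by
  obtain ⟨τ, hτ, e⟩ := h
  exact ⟨τ, hτ, by rw [mul_smul, mul_smul, e, smul_inv_smul]⟩

theorem conj_fix {α : Type} [MulAction (Equiv.Perm GolayPt) α] {σ τ : Equiv.Perm GolayPt} {x y : α}
    (hσ : σ • x = y) (hτ : τ • x = x) : (σ * τ * σ⁻¹) • y = y := by
  rw [← hσ, mul_smul, mul_smul, inv_smul_smul, hτ]

theorem cD_mem : setOf24 cD ∈ dodecads :=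
  setOf24_mem_wordsOfWeight (by decide +kernel) (by decide +kernel)

/-- A dodecad is an image of the standard one. -/
theorem exists_dodecad {d : Finset GolayPt} (hd : d ∈ dodecads) :
    ∃ σ ∈ M24, σ • setOf24 cD = d :=
  moves_codeSet gens24 cD trDodAll (fun M => wt M == 12) (by decide +kernel) (by decide +kernel) hd.1
    (by rw [beq_iff_eq, wt_maskOf]; exact hd.2)

theorem smul_inv_mem_dodecads {σ : Equiv.Perm GolayPt} (hσ : σ ∈ M24) {d : Finset GolayPt}
    (hd : d ∈ dodecads) : σ⁻¹ • d ∈ dodecads :=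
  (smul_mem_wordsOfWeight_iff (inv_mem hσ) 12 d).2 hd

/-- A dodecad with one of its points is an image of the standard pair. -/
theorem exists_dodecad_point {d : Finset GolayPt} (hd : d ∈ dodecads) {p : GolayPt} (hp : p ∈ d) :
    ∃ σ ∈ M24, σ • setOf24 cD = d ∧ σ (pt 0) = p := by
  obtain ⟨σ, hσ, hσd⟩ := exists_dodecad hd
  have hp' : σ⁻¹ p ∈ setOf24 cD := by
    rw [← smul_mem_iff σ, perm_apply_inv, hσd]; exact hp
  obtain ⟨τ, hτ, hτp⟩ := moves_pointSet gens12 0 trM12pt (fun i => hasPt i cD) (by decide +kernel)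
    (p := σ⁻¹ p) (by rw [hasPt_iff (idx_lt _), pt_idx]; exact hp')
  refine ⟨σ * τ, mul_mem hσ hτ.1, ?_, ?_⟩
  · rw [mul_smul, show τ • setOf24 cD = setOf24 cD from hτ.2, hσd]
  · show σ (τ (pt 0)) = p
    rw [show τ (pt 0) = σ⁻¹ p from hτp, perm_apply_inv]

end CfsgLib.GolayConfig
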