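import Cfsg.Agent.GolayConfig.NormalizerCert
import Cfsg.Agent.GolayConfig.NormData
import Cfsg.Agent.SporadicOut.MathieuGlue

/-!
Sylow normalisers of the Mathieu group of degree 23 and the subgroups containing the one at 23.
-/

set_option autoImplicit false

namespace CfsgLib.GolayConfig

open Cfsg CfsgLib.Mathieu CfsgLib.SporadicOut CfsgLib.Schur.Pc

theorem exists_M23_elt {t : ℕ} (h : inM23 t = true) : ∃ σ : Spor.M23, Rep CfsgLib.Mathieu.enc σ.1 t := by
  obtain ⟨σ, hσ, r⟩ := inGroup_of_inM23 h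
  exact ⟨⟨σ, hσ⟩, r⟩

theorem m23_card_sq {p : ℕ} (hp : p ∈ [5, 7, 11, 23]) : ¬ p * p ∣ Nat.card Spor.M23 := by
  rw [card_SporM23]
  simp only [List.mem_cons, List.not_mem_nil, or_false] at hp
  rcases hp with rfl | rfl | rfl | rfl <;> norm_num

theorem m23_norm7 : ∃ σ τ : Spor.M23, Rep CfsgLib.Mathieu.enc σ.1 NormData.a23_7 ∧
    Rep CfsgLib.Mathieu.enc τ.1 NormData.b23_7 ∧ orderOf σ = 7 ∧ Nat.card (normOf σ) = 42 ∧
    τ ∈ normOf σ := by
  obtain ⟨σ, hσ⟩ := exists_M23_elt (t := NormData.a23_7) (by decide +kernel)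
  obtain ⟨τ, hτ⟩ := exists_M23_elt (t := NormData.b23_7) (by decide +kernel)
  obtain ⟨h1, -, h3, h4, -⟩ := card_normalizer_eq SporM23_le fixM23 (q := 6) (k := NormData.k23_7)
    hσ hτ (p := 7) (by norm_num) (by norm_num) (by norm_num)
    (by decide +kernel) (by decide +kernel) (by decide +kernel) (lev := NormData.lev23_7)
    (Ls := NormData.lists23_7) (by decide +kernel) (by decide +kernel)
  exact ⟨σ, τ, hσ, hτ, h1, h3, h4⟩

theorem m23_norm11 : ∃ σ : Spor.M23, orderOf σ = 11 ∧ Nat.card (normOf σ) = 55 := by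
  obtain ⟨σ, hσ⟩ := exists_M23_elt (t := NormData.a23_11) (by decide +kernel)
  obtain ⟨τ, hτ⟩ := exists_M23_elt (t := NormData.b23_11) (by decide +kernel)
  obtain ⟨h1, -, h3, -, -⟩ := card_normalizer_eq SporM23_le fixM23 (q := 5) (k := NormData.k23_11)
    hσ hτ (p := 11) (by norm_num) (by norm_num) (by norm_num)
    (by decide +kernel) (by decide +kernel) (by decide +kernel) (lev := NormData.lev23_11)
    (Ls := NormData.lists23_11) (by decide +kernel) (by decide +kernel)
  exact ⟨σ, h1, h3⟩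

theorem m23_norm23 : ∃ σ τ : Spor.M23, Rep CfsgLib.Mathieu.enc σ.1 NormData.a23_23 ∧
    orderOf σ = 23 ∧ Nat.card (normOf σ) = 253 ∧ τ ∈ normOf σ := by
  obtain ⟨σ, hσ⟩ := exists_M23_elt (t := NormData.a23_23) (by decide +kernel)
  obtain ⟨τ, hτ⟩ := exists_M23_elt (t := NormData.b23_23) (by decide +kernel)
  obtain ⟨h1, -, h3, h4, -⟩ := card_normalizer_eq SporM23_le fixM23 (q := 11) (k := NormData.k23_23)
    hσ hτ (p := 23) (by norm_num) (by norm_num) (by norm_num)
    (by decide +kernel) (by decide +kernel) (by decide +kernel) (lev := NormData.lev23_23)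
    (Ls := NormData.lists23_23) (by decide +kernel) (by decide +kernel)
  exact ⟨σ, τ, hσ, h1, h3, h4⟩

theorem comap_conj_card {G : Type*} [Group G] (H : Subgroup G) (g : G) :
    Nat.card (H.comap (MulAut.conj g).toMonoidHom) = Nat.card H :=
  Nat.card_congr (Equiv.subtypeEquiv (MulAut.conj g).toEquiv fun _ => Iff.rfl)

/-- Divisors of the index of the 23-normaliser congruent to one. -/
theorem dvd_40320_cases {n : ℕ} (h : n ∣ 40320) (h' : n % 23 = 1) :
    n ∈ [1, 24, 70, 576, 1680, 40320] := by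
  have hle := Nat.le_of_dvd (by norm_num) h
  have key : allBelow 1754 (fun j => !(40320 % (1 + 23 * j) == 0) ||
      [1, 24, 70, 576, 1680, 40320].contains (1 + 23 * j)) = true := by decide +kernel
  rw [allBelow_iff] at key
  have := key (n / 23) (by omega)
  rw [show 1 + 23 * (n / 23) = n by omega, Bool.or_eq_true, List.contains_iff_mem,
    Bool.not_eq_true', beq_eq_false_iff_ne] at this
  exact this.resolve_left fun hne => hne (Nat.dvd_iff_mod_eq_zero.1 h ▸ rfl)

/-- The 23-normaliser is maximal. -/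
theorem m23_over_norm23 {σ : Spor.M23} (ho : orderOf σ = 23) (hN : Nat.card (normOf σ) = 253)
    {K : Subgroup Spor.M23} (hK : normOf σ ≤ K) : K = normOf σ ∨ K = ⊤ := by
  obtain ⟨s, hs, hN11⟩ := m23_norm11
  obtain ⟨n, hn⟩ := hN ▸ Subgroup.card_dvd_of_le hK
  have hKdvd : Nat.card K ∣ 10200960 := card_SporM23 ▸ Subgroup.card_subgroup_dvd_card K
  obtain ⟨m, hmN, hpm, -, hmod, -⟩ := exists_sylow_number (by norm_num) ho (m23_card_sq (by simp)) hN
    (H := K) (hK (Subgroup.le_normalizer (Subgroup.mem_zpowers σ)))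
  have h23 : Nat.card ↥(K ⊓ normOf σ) = 253 := by rw [inf_eq_right.2 hK, hN]
  have hn23 : n % 23 = 1 := by
    obtain ⟨-, -, h3⟩ := card_inf_normalizer_facts (p := 23) (by norm_num) ho (m23_card_sq (by simp))
      (H := K) (hK (Subgroup.le_normalizer (Subgroup.mem_zpowers σ)))
    rw [h23, hn, Nat.mul_div_cancel_left _ (by norm_num)] at h3
    exact h3
  have hn40 : n ∣ 40320 := by
    rw [hn, show (10200960 : ℕ) = 253 * 40320 by norm_num] at hKdvd
    exact Nat.dvd_of_mul_dvd_mul_left (by norm_num) hKdvd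
  obtain ⟨g, hg⟩ := exists_conj_mem (p := 11) (by norm_num) hs (m23_card_sq (by simp)) (H := K)
    (by rw [hn]; exact Dvd.dvd.mul_right (by norm_num) n)
  obtain ⟨m', hmN', hpm', hmH', hmod', -⟩ := exists_sylow_number (by norm_num) hs
    (m23_card_sq (by simp)) hN11 (H := K.comap (MulAut.conj g).toMonoidHom) hg
  rw [comap_conj_card, hn] at hmH' hmod'
  have hle := Nat.le_of_dvd (by norm_num) hmN'
  have hcases := dvd_40320_cases hn40 hn23
  simp only [List.mem_cons, List.not_mem_nil, or_false] at hcases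
  have : n = 1 ∨ n = 40320 := by
    rcases hcases with rfl | rfl | rfl | rfl | rfl | rfl <;>
      first
        | exact Or.inl rfl
        | exact Or.inr rfl
        | (exfalso; interval_cases m' <;> omega)
  rcases this with rfl | rfl
  · exact Or.inl (Subgroup.eq_of_le_of_card_ge hK (by rw [hn, hN])).symm
  · exact Or.inr (Subgroup.eq_top_of_card_eq _ (by rw [hn, card_SporM23]))

end CfsgLib.GolayConfig
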