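import Cfsg.Agent.GolayConfig.Stabilisers

/-!
Three points of a dodecad.
-/

set_option autoImplicit false

namespace CfsgLib.GolayConfig

open Cfsg CfsgLib.Mathieu
open scoped Pointwise

/-- The stabiliser of two points of the standard dodecad. -/
def H10 : Subgroup (Equiv.Perm GolayPt) := cut H11 ptCoding (cQd : ℕ)

/-- The stabiliser of three points of the standard dodecad. -/
def H9 : Subgroup (Equiv.Perm GolayPt) := cut H10 ptCoding (cRd : ℕ)

theorem gens10 : ∀ t ∈ gM12q, InGroup enc H10 t :=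
  inGroup_of_checks (inGroup_of_checks (inGroup_of_checks (inGroup_of_isM24 (by decide +kernel))
    (by decide +kernel)) (by decide +kernel)) (by decide +kernel)

theorem gens9 : ∀ t ∈ gM12r, InGroup enc H9 t :=
  inGroup_of_checks (inGroup_of_checks (inGroup_of_checks (inGroup_of_checks
    (inGroup_of_isM24 (by decide +kernel)) (by decide +kernel)) (by decide +kernel))
    (by decide +kernel)) (by decide +kernel)

theorem moves_H11_in {p : GolayPt} (hp : p ∈ setOf24 cD) (h0 : p ≠ pt 0) : Moves H11 (pt cQd) p :=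
  moves_pointSet gens11 cQd trM12q (fun i => hasPt i cD && !(i == 0)) (by decide +kernel)
    (by
      rw [Bool.and_eq_true, hasPt_iff (idx_lt _), pt_idx, Bool.not_eq_true', beq_eq_false_iff_ne]
      exact ⟨hp, fun h => h0 (by rw [← pt_idx p, h])⟩)

theorem moves_H10_in {p : GolayPt} (hp : p ∈ setOf24 cD) (h0 : p ≠ pt 0) (h1 : p ≠ pt cQd) :
    Moves H10 (pt cRd) p :=
  moves_pointSet gens10 cRd trM12r (fun i => hasPt i cD && !(i == 0) && !(i == cQd))
    (by decide +kernel)
    (by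
      rw [Bool.and_eq_true, Bool.and_eq_true, hasPt_iff (idx_lt _), pt_idx, Bool.not_eq_true',
        beq_eq_false_iff_ne, Bool.not_eq_true', beq_eq_false_iff_ne]
      exact ⟨⟨hp, fun h => h0 (by rw [← pt_idx p, h])⟩, fun h => h1 (by rw [← pt_idx p, h])⟩)

theorem moves_H9_out {p : GolayPt} (hp : p ∉ setOf24 cD) : Moves H9 (pt 23) p :=
  moves_pointSet gens9 23 trM12out (fun i => !hasPt i cD) (by decide +kernel)
    (by rw [Bool.not_eq_true', Bool.eq_false_iff, ne_eq, hasPt_iff (idx_lt _), pt_idx]; exact hp)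

theorem H10_le : H10 ≤ H12 := fun _ h => h.1.1

theorem H9_le : H9 ≤ M24 := fun _ h => h.1.1.1.1

theorem card_H10 : Nat.card H10 = 720 := by
  have h := card_cut H11 ptCoding (cQd : ℕ) (↑((setOf24 cD).erase (pt 0)) : Set GolayPt)
    (fun y hy => by
      obtain ⟨h0, hy⟩ := Finset.mem_erase.1 hy
      exact moves_H11_in hy h0)
    (fun σ hσ => by
      refine Finset.mem_erase.2 ⟨fun e => ?_, (H12_mem_iff hσ.1 _).2 (by decide +kernel)⟩
      exact absurd (σ.injective (e.trans hσ.2.symm)) (by decide +kernel))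
  rw [card_H11, Set.ncard_coe_finset,
    show ((setOf24 cD).erase (pt 0)).card = 11 by decide +kernel] at h
  change 7920 = 11 * Nat.card H10 at h
  omega

theorem card_H9 : Nat.card H9 = 72 := by
  have h := card_cut H10 ptCoding (cRd : ℕ)
    (↑(((setOf24 cD).erase (pt 0)).erase (pt cQd)) : Set GolayPt)
    (fun y hy => by
      obtain ⟨h1, hy⟩ := Finset.mem_erase.1 hy
      obtain ⟨h0, hy⟩ := Finset.mem_erase.1 hy
      exact moves_H10_in hy h0 h1)
    (fun σ hσ => by
      refine Finset.mem_erase.2 ⟨fun e => ?_, Finset.mem_erase.2 ⟨fun e => ?_,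
        (H12_mem_iff hσ.1.1 _).2 (by decide +kernel)⟩⟩
      · exact absurd (σ.injective (e.trans hσ.2.symm)) (by decide +kernel)
      · exact absurd (σ.injective (e.trans hσ.1.2.symm)) (by decide +kernel))
  rw [card_H10, Set.ncard_coe_finset,
    show (((setOf24 cD).erase (pt 0)).erase (pt cQd)).card = 10 by decide +kernel] at h
  change 720 = 10 * Nat.card H9 at h
  omega

/-- Three points of a dodecad are images of the standard ones. -/
theorem exists_dodecad_three {d : Finset GolayPt} (hd : d ∈ dodecads) {p q r : GolayPt}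
    (hp : p ∈ d) (hq : q ∈ d) (hr : r ∈ d) (hpq : p ≠ q) (hpr : p ≠ r) (hqr : q ≠ r) :
    ∃ σ ∈ M24, σ • setOf24 cD = d ∧ σ (pt 0) = p ∧ σ (pt cQd) = q ∧ σ (pt cRd) = r := by
  obtain ⟨σ, hσ, hσd, hσp⟩ := exists_dodecad_point hd hp
  have hin : ∀ x ∈ d, σ⁻¹ x ∈ setOf24 cD := fun x hx => by
    rw [← smul_mem_iff σ, perm_apply_inv, hσd]; exact hx
  obtain ⟨τ, hτ, hτq⟩ := moves_H11_in (hin q hq)
    (fun e => hpq (by rw [← hσp, ← e, perm_apply_inv]))
  have hd' : τ • setOf24 cD = setOf24 cD := hτ.1.2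
  obtain ⟨ρ, hρ, hρr⟩ := moves_H10_in (p := τ⁻¹ (σ⁻¹ r))
    (by rw [← H12_mem_iff hτ.1, perm_apply_inv]; exact hin r hr)
    (fun e => hpr (by
      rw [← hσp, show pt 0 = τ (pt 0) from hτ.2.symm, ← e, perm_apply_inv, perm_apply_inv]))
    (fun e => hqr (by
      have : τ (pt cQd) = σ⁻¹ q := hτq
      rw [← e, perm_apply_inv] at this
      rw [← perm_apply_inv σ q, ← this, perm_apply_inv]))
  refine ⟨σ * τ * ρ, mul_mem (mul_mem hσ hτ.1.1) hρ.1.1.1, ?_, ?_, ?_, ?_⟩
  · rw [mul_smul, mul_smul, show ρ • setOf24 cD = setOf24 cD from hρ.1.1.2, hd', hσd]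
  · show σ (τ (ρ (pt 0))) = p
    rw [show ρ (pt 0) = pt 0 from hρ.1.2, show τ (pt 0) = pt 0 from hτ.2, hσp]
  · show σ (τ (ρ (pt cQd))) = q
    rw [show ρ (pt cQd) = pt cQd from hρ.2, show τ (pt cQd) = σ⁻¹ q from hτq, perm_apply_inv]
  · show σ (τ (ρ (pt cRd))) = r
    rw [show ρ (pt cRd) = τ⁻¹ (σ⁻¹ r) from hρr, perm_apply_inv, perm_apply_inv]

end CfsgLib.GolayConfig
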